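import Groth.Agent.ASWeakLib.Unif
import Groth.Agent.EtRamStepLib.Ext
import Mathlib.FieldTheory.IntermediateField.Adjoin.Algebra

/-! Totally ramified extensions given by one uniformiser, and their composites. -/

set_option autoImplicit false
universe u

noncomputable section

namespace ASWeakLib

open EtRamStepLib

/-- A domain sitting injectively in a field is dominated by some valuation subring. -/
theorem exists_dominating {B F : Type u} [CommRing B] [IsLocalRing B] [Field F] (g : B →+* F) (hg : Function.Injective g) :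
    ∃ W : ValuationSubring F, EtRam.Dominates B g W := by
  let I : Ideal g.range := Ideal.map g.rangeRestrict (IsLocalRing.maximalIdeal B)
  have hbij : Function.Bijective g.rangeRestrict := ⟨fun a b h => hg (congrArg Subtype.val h), g.rangeRestrict_surjective⟩
  have hI : I ≠ ⊤ := by
    intro htop
    have := congrArg (Ideal.comap g.rangeRestrict) htop
    rw [Ideal.comap_map_of_bijective g.rangeRestrict hbij, Ideal.comap_top] at this
    exact (IsLocalRing.maximalIdeal.isMaximal B).ne_top this
  obtain ⟨W, hle, hnu⟩ := Ideal.image_subset_nonunits_valuationSubring I hI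
  exact ⟨W, fun a => hle ⟨a, rfl⟩, fun a ha =>
    (ValuationSubring.mem_nonunits_iff _).1 (hnu ⟨g.rangeRestrict a, Ideal.mem_map_of_mem _ ha, rfl⟩)⟩

variable (A K K₁ : Type u) [CommRing A] [IsDomain A] [IsDiscreteValuationRing A] [Field K] [Algebra A K]
  [IsFractionRing A K] [Field K₁] [Algebra K K₁]

/-- `K₁/K` has degree `e` and `x` has ramification index `e` at every valuation. -/
structure TRData (π : A) (e : ℕ) (x : K₁) : Prop where
  irr : Irreducible π
  pos : 0 < e
  rank : Module.finrank K K₁ = e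
  val : ∀ (Ω : Type u) [Field Ω] (W : ValuationSubring Ω) (j : K₁ →+* Ω),
    EtRam.Dominates A (j.comp ((algebraMap K K₁).comp (algebraMap A K))) W →
      W.valuation (j x) < 1 ∧ W.valuation (j (algebraMap K K₁ (algebraMap A K π))) = W.valuation (j x) ^ e

variable {A K K₁} {π : A} {e : ℕ} {x : K₁}

theorem TRData.x_ne (h : TRData A K K₁ π e x) : x ≠ 0 := by
  intro hx
  have hinj : Function.Injective ((algebraMap K K₁).comp (algebraMap A K)) :=
    (algebraMap K K₁).injective.comp (IsFractionRing.injective A K)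
  obtain ⟨W, hW⟩ := exists_dominating _ hinj
  have h2 := (h.val K₁ W (RingHom.id K₁) (by simpa using hW)).2
  rw [hx, map_zero, map_zero, zero_pow h.pos.ne', map_eq_zero] at h2
  exact h.irr.ne_zero (hinj (by rw [map_zero]; exact h2))

theorem TRData.layer (h : TRData A K K₁ π e x) {Ω : Type u} [Field Ω] (W : ValuationSubring Ω) (j : K₁ →+* Ω)
    (hW : EtRam.Dominates A (j.comp ((algebraMap K K₁).comp (algebraMap A K))) W) :
    Layer W (j.comp ((algebraMap K K₁).comp (algebraMap A K))) e (j x) (fun _ : Unit => (1 : Ω)) π :=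
  ⟨h.irr, (_root_.map_ne_zero _).2 h.x_ne, (h.val Ω W j hW).1, (h.val Ω W j hW).2, indep_unique W hW⟩

theorem TRData.span (h : TRData A K K₁ π e x) (z : K₁) :
    ∃ c : Fin e → K, z = ∑ i, algebraMap K K₁ (c i) * x ^ (i : ℕ) := by
  classical
  let g := (algebraMap K K₁).comp (algebraMap A K)
  have hinj : Function.Injective g := (algebraMap K K₁).injective.comp (IsFractionRing.injective A K)
  obtain ⟨W, hW⟩ := exists_dominating g hinj
  have hl := h.layer W (RingHom.id K₁) (by simpa using hW)
  have hli : LinearIndependent K (fun i : Fin e => x ^ (i : ℕ)) := by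
    refine Fintype.linearIndependent_iff.2 fun l hl0 => ?_
    by_contra hne
    push Not at hne
    obtain ⟨i₀, hi₀⟩ := hne
    obtain ⟨⟨s, hs⟩, hden⟩ := IsLocalization.exist_integer_multiples_of_finite (nonZeroDivisors A) l
    choose al hal using hden
    have hs0 : algebraMap A K s ≠ 0 := (map_ne_zero_iff _ (IsFractionRing.injective A K)).2 (nonZeroDivisors.ne_zero hs)
    obtain ⟨m, hm, -⟩ := hl.sum h.pos (fun i _ => al i) ⟨i₀, (), fun h0 => hi₀ (by
      have := hal i₀
      rw [h0, map_zero, Algebra.smul_def, eq_comm, mul_eq_zero] at this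
      exact this.resolve_left hs0)⟩
    have hzero : ∑ i : Fin e, RingHom.id K₁ x ^ (i : ℕ) * ∑ _ : Unit, ((RingHom.id K₁).comp g) (al i) * (1 : K₁) = 0 := by
      have : algebraMap K K₁ (algebraMap A K s) * (∑ i, l i • x ^ (i : ℕ)) = 0 := by rw [hl0, mul_zero]
      rw [Finset.mul_sum] at this
      rw [← this]
      refine Finset.sum_congr rfl fun i _ => ?_
      simp only [g, Finset.univ_unique, Finset.sum_singleton, mul_one, RingHom.comp_apply, RingHom.id_apply, hal,
        Algebra.smul_def, map_mul]
      ring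
    rw [hzero, map_zero] at hm
    exact pow_ne_zero m ((_root_.map_ne_zero _).2 hl.pos) hm.symm
  have : Nonempty (Fin e) := ⟨⟨0, h.pos⟩⟩
  let b := basisOfLinearIndependentOfCardEqFinrank hli (by rw [Fintype.card_fin, h.rank])
  refine ⟨fun i => b.repr z i, ?_⟩
  conv_lhs => rw [← b.sum_repr z]
  exact Finset.sum_congr rfl fun i _ => by rw [Algebra.smul_def, coe_basisOfLinearIndependentOfCardEqFinrank]

theorem TRData.finite (h : TRData A K K₁ π e x) : FiniteDimensional K K₁ :=
  FiniteDimensional.of_finrank_pos (h.rank ▸ h.pos)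

theorem TRData.totallyRamified (h : TRData A K K₁ π e x) :
    EtRam.IsTotallyRamified A ((algebraMap K K₁).comp (algebraMap A K)) := by
  classical
  let g := (algebraMap K K₁).comp (algebraMap A K)
  have hinj : Function.Injective g := (algebraMap K K₁).injective.comp (IsFractionRing.injective A K)
  have hg : ∀ a : A, g a = algebraMap K K₁ (algebraMap A K a) := fun _ => rfl
  have hlayer : ∀ V : ValuationSubring K₁, EtRam.Dominates A g V →
      Layer V g e x (fun _ : Unit => (1 : K₁)) π := fun V hV => by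
    simpa using h.layer V (RingHom.id K₁) (by simpa using hV)
  have hcl : ∀ z, Cleared g π e x (fun _ : Unit => (1 : K₁)) z := fun z => by
    obtain ⟨c, rfl⟩ := h.span z
    refine Finset.sum_induction _ _ (fun _ _ => Cleared.add) Cleared.zero fun i _ => ?_
    refine Cleared.smul (L := K) h.irr hg _ ?_
    simpa using Cleared.monomial (g := g) (π := π) (x := x) (e := fun _ : Unit => (1 : K₁)) i ()
  have hmem : ∀ V : ValuationSubring K₁, EtRam.Dominates A g V → ∀ z, z ∈ V ↔
      ∃ q : Fin e → A, z = ∑ i : Fin e, x ^ (i : ℕ) * g (q i) := by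
    intro V hV z
    constructor
    · intro hz
      obtain ⟨k, b, hb⟩ := hcl z
      choose q hq using (hlayer V hV).dvd_of_le_one h.pos k z b hb ((V.valuation_le_one_iff z).2 hz)
      refine ⟨fun i => q i (), mul_left_cancel₀ ((map_ne_zero_iff _ hinj).2 (pow_ne_zero k h.irr.ne_zero)) ?_⟩
      rw [hb, Finset.mul_sum]
      refine Finset.sum_congr rfl fun i _ => ?_
      simp only [Finset.univ_unique, Finset.sum_singleton, hq, map_mul, mul_one]
      rw [show (default : Unit) = () from rfl]
      ring
    · rintro ⟨q, rfl⟩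
      exact sum_mem fun i _ => mul_mem (pow_mem ((V.valuation_le_one_iff _).1 (hlayer V hV).lt.le) _) (hV.1 _)
  refine ⟨exists_dominating g hinj, fun V V' h h' => SetLike.ext fun z => (hmem V h z).trans (hmem V' h' z).symm, fun V hV r => ?_⟩
  obtain ⟨⟨z, hz⟩, rfl⟩ := IsLocalRing.residue_surjective r
  obtain ⟨q, hq⟩ := (hmem V hV z).1 hz
  refine ⟨q ⟨0, h.pos⟩, ?_⟩
  show IsLocalRing.residue V (RingHom.codRestrict g V hV.1 (q ⟨0, h.pos⟩)) = _
  rw [← sub_eq_zero, ← map_sub, IsLocalRing.residue_eq_zero_iff, V.valuation_lt_one_iff]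
  show V.valuation (g (q ⟨0, h.pos⟩) - z) < 1
  rw [hq, ← Finset.add_sum_erase _ _ (Finset.mem_univ (⟨0, h.pos⟩ : Fin e))]
  simp only [pow_zero, one_mul, sub_add_cancel_left, Valuation.map_neg]
  refine Valuation.map_sum_lt _ one_ne_zero fun i hi => ?_
  rw [map_mul, map_pow]
  refine mul_lt_one_of_nonneg_of_lt_one_left zero_le (pow_lt_one₀ zero_le (hlayer V hV).lt fun h0 => ?_) ((V.valuation_le_one_iff _).2 (hV.1 _))
  exact (Finset.mem_erase.1 hi).1 (Fin.ext h0)

/-- The composite with a weakly unramified extension: a uniformiser, and no new residues. -/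
theorem TRData.core (h : TRData A K K₁ π e x) {B L Ω : Type u} [CommRing B] [IsDomain B] [IsDiscreteValuationRing B]
    [Field L] [Algebra B L] [IsFractionRing B L] [Algebra A B] [IsLocalHom (algebraMap A B)]
    (hπB : Irreducible (algebraMap A B π)) [Algebra K L]
    (hA : ∀ a : A, algebraMap K L (algebraMap A K a) = algebraMap B L (algebraMap A B a))
    [Field Ω] [Algebra K Ω] [Algebra L Ω] [Algebra K₁ Ω] [IsScalarTower K L Ω] [IsScalarTower K K₁ Ω]
    (W : ValuationSubring Ω) (hW : EtRam.Dominates B ((algebraMap L Ω).comp (algebraMap B L)) W) :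
    (∀ t : K₁, algebraMap K₁ Ω t ∈ IntermediateField.adjoin L {algebraMap K₁ Ω x}) ∧
    Unif W (IntermediateField.adjoin L {algebraMap K₁ Ω x}).val.toRingHom
      ⟨algebraMap K₁ Ω x, IntermediateField.mem_adjoin_simple_self L _⟩ ∧
    ∀ s ∈ IntermediateField.adjoin L {algebraMap K₁ Ω x}, W.valuation s ≤ 1 →
      ∃ b : B, W.valuation (s - algebraMap L Ω (algebraMap B L b)) < 1 := by
  classical
  let g := (algebraMap L Ω).comp (algebraMap B L)
  have hg : ∀ b : B, g b = algebraMap L Ω (algebraMap B L b) := fun _ => rfl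
  let j := algebraMap K₁ Ω
  let y := j x
  have hjA : ∀ a : A, j (algebraMap K K₁ (algebraMap A K a)) = g (algebraMap A B a) := fun a => by
    rw [hg, ← hA, ← IsScalarTower.algebraMap_apply K L Ω]
    exact (IsScalarTower.algebraMap_apply K K₁ Ω _).symm
  have hdA : EtRam.Dominates A (j.comp ((algebraMap K K₁).comp (algebraMap A K))) W := by
    refine ⟨fun a => by show j (algebraMap K K₁ (algebraMap A K a)) ∈ W; rw [hjA]; exact hW.1 _, fun a ha => ?_⟩
    show W.valuation (j (algebraMap K K₁ (algebraMap A K a))) < 1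
    rw [hjA]
    exact hW.2 _ fun hu => ha (IsUnit.of_map (algebraMap A B) a hu)
  obtain ⟨hy1, hpow⟩ := h.val Ω W j hdA
  rw [hjA] at hpow
  have hy0 : y ≠ 0 := (_root_.map_ne_zero _).2 h.x_ne
  have hlayer : Layer W g e y (fun _ : Unit => (1 : Ω)) (algebraMap A B π) :=
    ⟨hπB, hy0, hy1, hpow, indep_unique W hW⟩
  have hmon : ∀ i : Fin e, Cleared g (algebraMap A B π) e y (fun _ : Unit => (1 : Ω)) (y ^ (i : ℕ)) := fun i => by
    simpa using Cleared.monomial (g := g) (π := algebraMap A B π) (x := y) (e := fun _ : Unit => (1 : Ω)) i ()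
  have hjK : ∀ c : K, j (algebraMap K K₁ c) = algebraMap L Ω (algebraMap K L c) := fun c => by
    rw [← IsScalarTower.algebraMap_apply, ← IsScalarTower.algebraMap_apply]
  have hint : IsIntegral L y := by
    have := h.finite
    exact (IsIntegral.of_finite K x).map (IsScalarTower.toAlgHom K K₁ Ω) |>.tower_top
  have hF : ∀ z ∈ IntermediateField.adjoin L {y}, z ∈ Algebra.adjoin L ({y} : Set Ω) := fun z hz => by
    rw [← IntermediateField.adjoin_simple_toSubalgebra_of_isAlgebraic hint.isAlgebraic]
    exact hz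
  have hcl : ∀ z ∈ IntermediateField.adjoin L {y}, Cleared g (algebraMap A B π) e y (fun _ : Unit => (1 : Ω)) z := fun z hz => by
    refine Cleared.adjoin hπB hg (L := L) (by simpa using hmon ⟨0, h.pos⟩) (S := {y}) ?_ (hF z hz)
    rintro _ rfl i ⟨⟩
    rw [mul_one, ← pow_succ']
    rcases lt_or_eq_of_le (Nat.succ_le_of_lt i.2) with hlt | heq
    · exact hmon ⟨_, hlt⟩
    · obtain ⟨c, hc⟩ := h.span (x ^ e)
      rw [show (i : ℕ) + 1 = e from heq, show y ^ e = j (x ^ e) from (map_pow j x e).symm, hc, map_sum]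
      refine Finset.sum_induction _ _ (fun _ _ => Cleared.add) Cleared.zero fun i _ => ?_
      rw [map_mul, map_pow, hjK]
      exact (hmon i).smul hπB hg _
  refine ⟨fun t => ?_, unif_of_layer (F' := IntermediateField.adjoin L {y}) hlayer h.pos (fun z => hcl _ z.2), fun s hs hs1 => ?_⟩
  · obtain ⟨c, hc⟩ := h.span t
    rw [hc, map_sum]
    refine sum_mem fun i _ => ?_
    rw [map_mul, map_pow, show j (algebraMap K K₁ (c i)) = _ from hjK _]
    exact mul_mem (IntermediateField.algebraMap_mem _ _) (pow_mem (IntermediateField.mem_adjoin_simple_self L _) _)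
  · obtain ⟨k, b, hb⟩ := hcl s hs
    choose q hq using hlayer.dvd_of_le_one h.pos k s b hb hs1
    have hsum : s = ∑ i : Fin e, y ^ (i : ℕ) * g (q i ()) := by
      have hk : g (algebraMap A B π ^ k) ≠ 0 := by
        rw [hg]
        exact (_root_.map_ne_zero _).2 ((map_ne_zero_iff _ (IsFractionRing.injective B L)).2 (pow_ne_zero _ hπB.ne_zero))
      refine mul_left_cancel₀ hk ?_
      rw [hb, Finset.mul_sum]
      refine Finset.sum_congr rfl fun i _ => ?_
      simp only [Finset.univ_unique, Finset.sum_singleton, hq, map_mul, mul_one]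
      rw [show (default : Unit) = () from rfl]
      ring
    refine ⟨q ⟨0, h.pos⟩ (), ?_⟩
    show W.valuation (s - g (q ⟨0, h.pos⟩ ())) < 1
    rw [hsum, ← Finset.add_sum_erase _ _ (Finset.mem_univ (⟨0, h.pos⟩ : Fin e))]
    simp only [pow_zero, one_mul, add_sub_cancel_left]
    refine Valuation.map_sum_lt _ one_ne_zero fun i hi => ?_
    rw [map_mul, map_pow]
    refine mul_lt_one_of_nonneg_of_lt_one_left zero_le (pow_lt_one₀ zero_le hy1 fun h0 => ?_) ((W.valuation_le_one_iff _).2 (hW.1 _))
    exact (Finset.mem_erase.1 hi).1 (Fin.ext h0)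

end ASWeakLib
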