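import Groth.Agent.PerfectFieldLib.FormallySmooth
import Mathlib.RingTheory.DiscreteValuationRing.Basic
import Mathlib.RingTheory.LocalRing.ResidueField.Basic
import Mathlib.RingTheory.Localization.FractionRing
import Mathlib.Algebra.CharP.Algebra
import Mathlib.Algebra.CharP.Frobenius
import Mathlib.Algebra.Algebra.ZMod
import Mathlib.Algebra.Field.ZMod
import Mathlib.FieldTheory.Perfect

/-! Principal parts in a discrete valuation ring of positive characteristic modulo `t ^ p - t`. -/

set_option autoImplicit false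
universe u

noncomputable section

namespace ASWeakLib

open IsLocalRing

variable (p : ℕ) (B : Type u) [CommRing B] [IsDomain B] [IsDiscreteValuationRing B]

/-- A section of the residue map which is a homomorphism modulo `m ^ N`. -/
structure Section (N : ℕ) where
  toFun : ResidueField B → B
  res : ∀ c, residue B (toFun c) = c
  add : ∀ c d, toFun (c + d) - (toFun c + toFun d) ∈ maximalIdeal B ^ N
  zero : toFun 0 ∈ maximalIdeal B ^ N
  pow : ∀ (c : ResidueField B) (n : ℕ), toFun (c ^ n) - toFun c ^ n ∈ maximalIdeal B ^ N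

variable {p B}

theorem nonempty_section (hp : p.Prime) [CharP B p] (N : ℕ) : Nonempty (Section B N) := by
  have : Fact p.Prime := ⟨hp⟩
  let _ : Algebra (ZMod p) B := ZMod.algebra B p
  have hle : maximalIdeal B ^ (N + 1) ≤ maximalIdeal B := Ideal.pow_le_self (Nat.succ_ne_zero N)
  let g : B ⧸ maximalIdeal B ^ (N + 1) →ₐ[ZMod p] ResidueField B :=
    Ideal.Quotient.liftₐ _ (IsScalarTower.toAlgHom (ZMod p) B (ResidueField B))
      (fun a ha => (residue_eq_zero_iff a).2 (hle ha))
  have hg : ∀ b, g (Ideal.Quotient.mk _ b) = residue B b := fun _ => rfl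
  have hsurj : Function.Surjective g := fun r => by
    obtain ⟨b, rfl⟩ := residue_surjective r
    exact ⟨_, hg b⟩
  have hnil : IsNilpotent (RingHom.ker (g : B ⧸ maximalIdeal B ^ (N + 1) →+* ResidueField B)) := by
    refine ⟨N + 1, ?_⟩
    have : RingHom.ker (g : B ⧸ maximalIdeal B ^ (N + 1) →+* ResidueField B) ≤
        (maximalIdeal B).map (Ideal.Quotient.mk _) := fun z hz => by
      obtain ⟨b, rfl⟩ := Ideal.Quotient.mk_surjective z
      exact Ideal.mem_map_of_mem _ ((residue_eq_zero_iff b).1 ((hg b).symm.trans hz))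
    refine le_bot_iff.1 ((Ideal.pow_right_mono this _).trans ?_)
    rw [← Ideal.map_pow, Ideal.map_quotient_self]
  have := Groth.Agent.PerfectFieldLib.formallySmooth_of_perfectField (ZMod p) (ResidueField B)
  let s := Algebra.FormallySmooth.liftOfSurjective (AlgHom.id (ZMod p) (ResidueField B)) g hsurj hnil
  have hs : ∀ c, g (s c) = c := fun c => Algebra.FormallySmooth.liftOfSurjective_apply _ g hsurj hnil c
  let ψ : ResidueField B → B := fun c => Quotient.out (s c)
  have hψ : ∀ c, Ideal.Quotient.mk (maximalIdeal B ^ (N + 1)) (ψ c) = s c := fun c => Quotient.out_eq (s c)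
  have hmem : ∀ b, Ideal.Quotient.mk (maximalIdeal B ^ (N + 1)) b = 0 → b ∈ maximalIdeal B ^ N := fun b hb =>
    Ideal.pow_le_pow_right (Nat.le_succ N) (Ideal.Quotient.eq_zero_iff_mem.1 hb)
  exact ⟨⟨ψ, fun c => by rw [← hg, hψ, hs], fun c d => hmem _ (by simp [hψ]), hmem _ (by simp [hψ]),
    fun c n => hmem _ (by simp [hψ])⟩⟩

variable (p) (L : Type u) [Field L] [Algebra B L] [IsFractionRing B L] [CharP L p]

/-- `t ^ p - t` and integral elements. -/
def asTriv [Fact p.Prime] : AddSubgroup L where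
  carrier := {r | ∃ (t : L) (b : B), r = t ^ p - t + algebraMap B L b}
  zero_mem' := ⟨0, 0, by simp [zero_pow (Fact.out : p.Prime).ne_zero]⟩
  add_mem' := by
    rintro r r' ⟨t, b, rfl⟩ ⟨t', b', rfl⟩
    exact ⟨t + t', b + b', by rw [add_pow_char, map_add]; ring⟩
  neg_mem' := by
    rintro r ⟨t, b, rfl⟩
    refine ⟨-t, -b, ?_⟩
    rw [show (-t) ^ p = -(t ^ p) by rw [← zero_sub t, sub_pow_char, zero_pow (Fact.out : p.Prime).ne_zero, zero_sub], map_neg]
    ring

variable {p L}

omit [IsFractionRing B L] in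
theorem div_mem_asTriv [Fact p.Prime] {π : B} (hπ : Irreducible π) (hπ0 : algebraMap B L π ≠ 0) {N i : ℕ} (hi : i ≤ N)
    {b : B} (hb : b ∈ maximalIdeal B ^ N) : algebraMap B L b / algebraMap B L π ^ i ∈ asTriv p L (B := B) := by
  rw [hπ.maximalIdeal_eq, Ideal.span_singleton_pow, Ideal.mem_span_singleton] at hb
  obtain ⟨c, rfl⟩ := hb
  refine ⟨0, π ^ (N - i) * c, ?_⟩
  rw [zero_pow (Fact.out : p.Prime).ne_zero, sub_zero, zero_add, map_mul, map_mul, map_pow, map_pow,
    div_eq_iff (pow_ne_zero _ hπ0)]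
  rw [show N = N - i + i by omega, pow_add]
  simp only [Nat.add_sub_cancel]
  ring

theorem exists_principalPart [Fact p.Prime] {π : B} (hπ : Irreducible π) (ξ : L) :
    ∃ (N : ℕ) (b : B), ξ = algebraMap B L b / algebraMap B L π ^ N := by
  obtain ⟨a, s, hs, rfl⟩ := IsFractionRing.div_surjective (A := B) ξ
  obtain ⟨m, u, hu⟩ := IsDiscreteValuationRing.eq_unit_mul_pow_irreducible (nonZeroDivisors.ne_zero hs) hπ
  refine ⟨m, a * (u⁻¹ : Bˣ), ?_⟩
  have hu0 : algebraMap B L (u : B) ≠ 0 := (map_ne_zero_iff _ (IsFractionRing.injective B L)).2 u.ne_zero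
  have h2 : algebraMap B L ((u⁻¹ : Bˣ) : B) = (algebraMap B L (u : B))⁻¹ :=
    eq_inv_of_mul_eq_one_right (by rw [← map_mul, Units.mul_inv, map_one])
  rw [hu, map_mul, map_mul, map_pow, h2]
  field_simp

/-- Only the pole orders `i` with `N < i * p` remain. -/
theorem exists_sum [Fact p.Prime] {π : B} (hπ : Irreducible π) {N : ℕ} (ψ : Section B N) (b : B) :
    ∃ c : ℕ → ResidueField B, algebraMap B L b / algebraMap B L π ^ N -
      ∑ i ∈ (Finset.Icc 1 N).filter (fun i => N < i * p), algebraMap B L (ψ.toFun (c i)) / algebraMap B L π ^ i ∈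
        asTriv p L (B := B) := by
  classical
  have hp : p.Prime := Fact.out
  have hπ0 : algebraMap B L π ≠ 0 := (map_ne_zero_iff _ (IsFractionRing.injective B L)).2 hπ.ne_zero
  let I := (Finset.Icc 1 N).filter (fun i => N < i * p)
  let P : L → Prop := fun r => ∃ c : ℕ → ResidueField B,
    r - ∑ i ∈ I, algebraMap B L (ψ.toFun (c i)) / algebraMap B L π ^ i ∈ asTriv p L (B := B)
  have hiN : ∀ i ∈ I, i ≤ N := fun i hi => (Finset.mem_Icc.1 (Finset.mem_filter.1 hi).1).2
  have htriv : ∀ r ∈ asTriv p L (B := B), P r := fun r hr => ⟨fun _ => 0, sub_mem hr (sum_mem fun i hi =>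
    div_mem_asTriv hπ hπ0 (hiN i hi) ψ.zero)⟩
  have hadd : ∀ r r', P r → P r' → P (r + r') := by
    rintro r r' ⟨c, hc⟩ ⟨c', hc'⟩
    refine ⟨c + c', ?_⟩
    rw [show r + r' - ∑ i ∈ I, algebraMap B L (ψ.toFun ((c + c') i)) / algebraMap B L π ^ i =
      (r - ∑ i ∈ I, algebraMap B L (ψ.toFun (c i)) / algebraMap B L π ^ i) +
      (r' - ∑ i ∈ I, algebraMap B L (ψ.toFun (c' i)) / algebraMap B L π ^ i) -
      ∑ i ∈ I, algebraMap B L (ψ.toFun (c i + c' i) - (ψ.toFun (c i) + ψ.toFun (c' i))) / algebraMap B L π ^ i by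
        simp only [Pi.add_apply, map_sub, map_add, sub_div, add_div, Finset.sum_sub_distrib, Finset.sum_add_distrib]; ring]
    exact sub_mem (add_mem hc hc') (sum_mem fun i hi => div_mem_asTriv hπ hπ0 (hiN i hi) (ψ.add _ _))
  have hsingle : ∀ k i, N - i = k → 1 ≤ i → i ≤ N → ∀ c, P (algebraMap B L (ψ.toFun c) / algebraMap B L π ^ i) := by
    intro k
    induction k using Nat.strong_induction_on with
    | _ k ih =>
      intro i hik hi1 hi c
      by_cases hiI : N < i * p
      · have hmem : i ∈ I := Finset.mem_filter.2 ⟨Finset.mem_Icc.2 ⟨hi1, hi⟩, hiI⟩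
        refine ⟨fun i' => if i' = i then c else 0, ?_⟩
        rw [← Finset.add_sum_erase _ _ hmem]
        simp only [if_true, sub_add_cancel_left]
        refine neg_mem (sum_mem fun i' hi' => ?_)
        rw [if_neg (Finset.mem_erase.1 hi').1]
        exact div_mem_asTriv hπ hπ0 (hiN i' (Finset.mem_erase.1 hi').2) ψ.zero
      · push Not at hiI
        have hlt : i < i * p := lt_mul_of_one_lt_right hi1 hp.one_lt
        have h := ih (N - i * p) (by omega) (i * p) rfl (by omega) hiI (c ^ p)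
        have hdiff : algebraMap B L (ψ.toFun c) / algebraMap B L π ^ i -
            algebraMap B L (ψ.toFun (c ^ p)) / algebraMap B L π ^ (i * p) ∈ asTriv p L (B := B) := by
          rw [show algebraMap B L (ψ.toFun c) / algebraMap B L π ^ i -
              algebraMap B L (ψ.toFun (c ^ p)) / algebraMap B L π ^ (i * p) =
              -((algebraMap B L (ψ.toFun c) / algebraMap B L π ^ i) ^ p - algebraMap B L (ψ.toFun c) / algebraMap B L π ^ i) -
              algebraMap B L (ψ.toFun (c ^ p) - ψ.toFun c ^ p) / algebraMap B L π ^ (i * p) by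
            rw [div_pow, ← pow_mul, map_sub, map_pow, sub_div]; ring]
          exact sub_mem (neg_mem ⟨_, 0, by rw [map_zero, add_zero]⟩) (div_mem_asTriv hπ hπ0 hiI (ψ.pow c p))
        have := hadd _ _ (htriv _ hdiff) h
        rwa [sub_add_cancel] at this
  suffices ∀ M, M ≤ N → ∀ b : B, P (algebraMap B L b / algebraMap B L π ^ M) from this N le_rfl b
  intro M
  induction M with
  | zero => exact fun _ b => htriv _ ⟨0, b, by simp [zero_pow hp.ne_zero]⟩
  | succ M ih =>
    intro hM b
    obtain ⟨b', hb'⟩ : π ∣ b - ψ.toFun (residue B b) := by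
      rw [← Ideal.mem_span_singleton, ← hπ.maximalIdeal_eq, ← residue_eq_zero_iff, map_sub, ψ.res, sub_self]
    have := hadd _ _ (hsingle _ (M + 1) rfl (by omega) hM (residue B b)) (ih (by omega) b')
    rw [show algebraMap B L b / algebraMap B L π ^ (M + 1) = algebraMap B L (ψ.toFun (residue B b)) / algebraMap B L π ^ (M + 1) +
        algebraMap B L b' / algebraMap B L π ^ M by
      conv_lhs => rw [eq_add_of_sub_eq hb', map_add, map_mul, pow_succ]
      rw [pow_succ]
      field_simp
      ring]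
    exact this

theorem exists_root_max (hp : p.Prime) {c : ResidueField B} (hc : ¬ ∀ n : ℕ, ∃ y, y ^ p ^ n = c) :
    ∃ (j : ℕ) (d : ResidueField B), c = d ^ p ^ j ∧ ∀ y, y ^ p ≠ d := by
  classical
  push Not at hc
  have h0 : Nat.find hc ≠ 0 := fun h0 => Nat.find_spec hc c (by rw [h0]; simp)
  obtain ⟨j, hj⟩ := Nat.exists_eq_succ_of_ne_zero h0
  have := Nat.find_min hc (show j < Nat.find hc by omega)
  push Not at this
  obtain ⟨d, hd⟩ := this
  refine ⟨j, d, hd.symm, fun y hy => Nat.find_spec hc y ?_⟩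
  rw [hj, pow_succ', pow_mul, hy, hd]

/-- Perfect residues lift to high powers of elements downstairs. -/
theorem exists_lift_pow (hp : p.Prime) [CharP B p] {A : Type u} [CommRing A] [IsLocalRing A] [Algebra A B]
    [IsLocalHom (algebraMap A B)]
    (hk : ∀ x : ResidueField B, (∀ n : ℕ, ∃ y : ResidueField B, y ^ (p ^ n) = x) ↔
      x ∈ Set.range (algebraMap (ResidueField A) (ResidueField B)))
    {N : ℕ} (ψ : Section B N) {c : ResidueField B} (hc : ∀ n : ℕ, ∃ y, y ^ p ^ n = c) (hc0 : c ≠ 0) (M : ℕ) (hM : N ≤ p ^ M) :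
    ∃ a : A, IsUnit a ∧ algebraMap A B a ^ p ^ M - ψ.toFun c ∈ maximalIdeal B ^ N := by
  have : Fact p.Prime := ⟨hp⟩
  have : CharP (ResidueField B) p := (CharP.charP_iff_prime_eq_zero hp).2 (by
    rw [← map_natCast (residue B) p, CharP.cast_eq_zero, map_zero])
  obtain ⟨y, hy⟩ := hc M
  have hy' : ∀ n, ∃ z, z ^ p ^ n = y := fun n => by
    obtain ⟨z, hz⟩ := hc (n + M)
    refine ⟨z, iterateFrobenius_inj (ResidueField B) p M ?_⟩
    rw [iterateFrobenius_def, iterateFrobenius_def, ← pow_mul, ← pow_add, hz, hy]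
  obtain ⟨e, he⟩ := (hk y).1 hy'
  obtain ⟨a, rfl⟩ := residue_surjective e
  have hay : residue B (algebraMap A B a) = y := he
  refine ⟨a, ?_, ?_⟩
  · refine IsUnit.of_map (algebraMap A B) a (residue_ne_zero_iff_isUnit _ |>.1 ?_)
    rw [hay]
    exact fun h => hc0 (by rw [← hy, h, zero_pow (pow_ne_zero _ hp.ne_zero)])
  · have h1 : algebraMap A B a - ψ.toFun y ∈ maximalIdeal B := by
      rw [← residue_eq_zero_iff, map_sub, hay, ψ.res, sub_self]
    have h2 : (algebraMap A B a - ψ.toFun y) ^ p ^ M ∈ maximalIdeal B ^ N :=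
      Ideal.pow_le_pow_right hM (Ideal.pow_mem_pow h1 _)
    have h3 := sub_mem h2 (ψ.pow y (p ^ M))
    rw [hy, sub_pow_char_pow] at h3
    rw [show algebraMap A B a ^ p ^ M - ψ.toFun c =
      (algebraMap A B a ^ p ^ M - ψ.toFun y ^ p ^ M) - (ψ.toFun c - ψ.toFun y ^ p ^ M) by ring]
    exact h3

theorem eq_of_mul_pow (hp : p.Prime) {N i i' : ℕ} (hi : i ≤ N) (hi' : i' ≤ N) (h : N < i * p) (h' : N < i' * p) {a a' : ℕ}
    (heq : i * p ^ a = i' * p ^ a') : i = i' := by
  wlog hle : a ≤ a' generalizing i i' a a'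
  · exact (this hi' hi h' h heq.symm (le_of_not_ge hle)).symm
  obtain ⟨d, rfl⟩ := Nat.exists_eq_add_of_le hle
  rcases Nat.eq_zero_or_pos d with rfl | hd
  · exact Nat.eq_of_mul_eq_mul_right (pow_pos hp.pos a) (by simpa using heq)
  · rw [pow_add, mul_comm (p ^ a), ← mul_assoc] at heq
    have h1 := Nat.eq_of_mul_eq_mul_right (pow_pos hp.pos a) heq
    have h2 : i' * p ≤ i' * p ^ d := Nat.mul_le_mul_left _ (Nat.le_self_pow hd.ne' p)
    omega

end ASWeakLib
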