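import Groth.Agent.ASWeakLib.Core
import Mathlib.RingTheory.AdjoinRoot
import Mathlib.FieldTheory.Separable

/-! The two kinds of totally ramified extensions. -/

set_option autoImplicit false
universe u

noncomputable section

namespace ASWeakLib

open Polynomial

variable {A K : Type u} [CommRing A] [IsDomain A] [IsDiscreteValuationRing A] [Field K] [Algebra A K] [IsFractionRing A K]

omit [IsFractionRing A K] in
theorem valuation_le_of_integral {K₁ : Type u} [Field K₁] [Algebra A K₁] {b : K₁} (hb : b ∈ integralClosure A K₁)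
    {Ω : Type u} [Field Ω] (W : ValuationSubring Ω) (j : K₁ →+* Ω) (hj : ∀ a : A, j (algebraMap A K₁ a) ∈ W) :
    W.valuation (j b) ≤ 1 := by
  obtain ⟨q, hq, hqb⟩ := hb
  have : IsIntegral W (j b) := by
    refine ⟨q.map ((j.comp (algebraMap A K₁)).codRestrict W.toSubring hj), hq.map _, ?_⟩
    rw [eval₂_map]
    show eval₂ (j.comp (algebraMap A K₁)) (j b) q = 0
    rw [← hom_eval₂, hqb, map_zero]
  obtain ⟨w, hw⟩ := IsIntegrallyClosed.isIntegral_iff.1 this
  exact (W.valuation_le_one_iff _).2 (hw ▸ w.2)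

theorem trData_of_root {K₁ : Type u} [Field K₁] [Algebra K K₁] [Algebra A K₁] [IsScalarTower A K K₁] {π : A}
    (hπ : Irreducible π) {e : ℕ} (he : 0 < e) (hrank : Module.finrank K K₁ = e) {x b : K₁}
    (hb : b ∈ integralClosure A K₁) {n : ℕ} (hn : 1 < n) (hx : x ^ e = algebraMap A K₁ π + algebraMap A K₁ π ^ n * b) :
    TRData A K K₁ π e x := by
  refine ⟨hπ, he, hrank, fun Ω _ W j hW => ?_⟩
  have hA : ∀ a, algebraMap K K₁ (algebraMap A K a) = algebraMap A K₁ a := fun a => (IsScalarTower.algebraMap_apply A K K₁ a).symm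
  rw [hA]
  have hlt : W.valuation (j (algebraMap A K₁ π)) < 1 := by
    have := hW.2 π (by rw [hπ.maximalIdeal_eq]; exact Ideal.mem_span_singleton_self π)
    simpa [hA] using this
  have hbW := valuation_le_of_integral hb W j fun a => by simpa [hA] using hW.1 a
  have hinj : Function.Injective (algebraMap A K₁) := by
    rw [IsScalarTower.algebraMap_eq A K K₁]; exact (algebraMap K K₁).injective.comp (IsFractionRing.injective A K)
  have h0 : W.valuation (j (algebraMap A K₁ π)) ≠ 0 :=
    (_root_.map_ne_zero _).2 ((_root_.map_ne_zero _).2 ((map_ne_zero_iff _ hinj).2 hπ.ne_zero))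
  have hv : W.valuation (j (algebraMap A K₁ π)) = W.valuation (j x) ^ e := by
    rw [← map_pow, ← map_pow, hx, map_add, Valuation.map_add_eq_of_lt_left]
    rw [map_mul, map_pow, map_mul, map_pow]
    refine lt_of_le_of_lt (mul_le_of_le_one_right zero_le hbW) ?_
    exact pow_lt_self_of_lt_one₀ (zero_lt_iff.2 h0) hlt hn
  refine ⟨?_, hv⟩
  by_contra hge
  rw [hv] at hlt
  exact not_le.2 hlt (one_le_pow₀ (not_lt.1 hge))

variable {p : ℕ} (hp : p.Prime) [CharP K p]
include hp

/-- `y ^ p - y = u / π ^ n`. -/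
theorem exists_asExt {π : A} (hπ : Irreducible π) {n : ℕ} (hn : ¬ p ∣ n) {u : A} (hu : IsUnit u) :
    ∃ (K₁ : Type u) (_ : Field K₁) (_ : Algebra K K₁) (x y : K₁), TRData A K K₁ π p x ∧ Algebra.IsSeparable K K₁ ∧
      y ^ p - y = algebraMap K K₁ (algebraMap A K u / algebraMap A K π ^ n) := by
  have : Fact p.Prime := ⟨hp⟩
  let η : K := algebraMap A K u / algebraMap A K π ^ n
  have hn0 : n ≠ 0 := fun h0 => hn (h0 ▸ dvd_zero p)
  -- the values at a valuation dominating `A`
  have hval : ∀ (Ω : Type u) [Field Ω] (W : ValuationSubring Ω) (g : K →+* Ω), EtRam.Dominates A (g.comp (algebraMap A K)) W →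
      W.valuation (g (algebraMap A K π)) < 1 ∧ W.valuation (g (algebraMap A K π)) ≠ 0 ∧
      W.valuation (g η) * W.valuation (g (algebraMap A K π)) ^ n = 1 := by
    intro Ω _ W g hW
    have h0 : g (algebraMap A K π) ≠ 0 :=
      (_root_.map_ne_zero _).2 ((map_ne_zero_iff _ (IsFractionRing.injective A K)).2 hπ.ne_zero)
    refine ⟨hW.2 π (by rw [hπ.maximalIdeal_eq]; exact Ideal.mem_span_singleton_self π), (_root_.map_ne_zero _).2 h0, ?_⟩
    rw [← map_pow, ← map_mul, ← map_pow g, ← map_mul g,
      show η * algebraMap A K π ^ n = algebraMap A K u from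
        div_mul_cancel₀ _ (pow_ne_zero _ ((map_ne_zero_iff _ (IsFractionRing.injective A K)).2 hπ.ne_zero))]
    exact EtRamStepLib.valuation_eq_one_of_isUnit W hW hu
  have hroot : ∀ r : K, r ^ p - r ≠ η := by
    intro r hr
    obtain ⟨W, hW⟩ := exists_dominating (algebraMap A K) (IsFractionRing.injective A K)
    obtain ⟨hlt, hne, h1⟩ := hval K W (RingHom.id K) hW
    simp only [RingHom.id_apply] at hlt hne h1
    set w := W.valuation (algebraMap A K π)
    have hη : 1 < W.valuation η := by
      by_contra hle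
      push Not at hle
      exact (lt_of_le_of_lt (mul_le_of_le_one_left zero_le hle) (pow_lt_one₀ zero_le hlt hn0)).ne h1
    have hr1 : 1 < W.valuation r := by
      by_contra hle
      push Not at hle
      refine not_le.2 hη ?_
      rw [← hr]
      exact W.valuation.map_sub_le (by rw [map_pow]; exact pow_le_one₀ zero_le hle) hle
    have hrp : W.valuation η = W.valuation r ^ p := by
      rw [← hr, Valuation.map_sub_eq_of_lt_left, map_pow]
      rw [map_pow]
      simpa using pow_lt_pow_right₀ hr1 hp.one_lt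
    obtain ⟨a, s, hs, hdiv⟩ := IsFractionRing.div_surjective (A := A) r
    have ha : a ≠ 0 := fun h0 => by rw [← hdiv, h0, map_zero, zero_div, map_zero] at hr1; exact not_lt.2 zero_le hr1
    obtain ⟨i, w₁, ha'⟩ := IsDiscreteValuationRing.eq_unit_mul_pow_irreducible ha hπ
    obtain ⟨j, w₂, hs'⟩ := IsDiscreteValuationRing.eq_unit_mul_pow_irreducible (nonZeroDivisors.ne_zero hs) hπ
    have hvr : W.valuation r * w ^ j = w ^ i := by
      have hu' : ∀ v : Aˣ, W.valuation (algebraMap A K (v : A)) = 1 := fun v =>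
        EtRamStepLib.valuation_eq_one_of_isUnit W hW v.isUnit
      have : r * algebraMap A K s = algebraMap A K a := by
        rw [← hdiv, div_mul_cancel₀ _ ((map_ne_zero_iff _ (IsFractionRing.injective A K)).2 (nonZeroDivisors.ne_zero hs))]
      have := congrArg W.valuation this
      rwa [ha', hs', map_mul, map_mul, map_mul, map_mul, map_mul, map_pow, map_pow, map_pow, map_pow, hu', hu', one_mul, one_mul] at this
    have h2 : w ^ (i * p + n) = w ^ (j * p) := by
      rw [pow_add, pow_mul, pow_mul, ← hvr, mul_pow, ← hrp, mul_right_comm, h1, one_mul]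
    have h3 : i * p + n = j * p := (pow_right_strictAnti₀ (zero_lt_iff.2 hne) hlt).injective h2
    exact hn ((Nat.dvd_add_right (dvd_mul_left p i)).1 (h3 ▸ dvd_mul_left p j))
  have hirr := irreducible_asPoly hp η hroot
  have := Fact.mk hirr
  let K₁ := AdjoinRoot (X ^ p - X - C η)
  let pb := AdjoinRoot.powerBasis (f := X ^ p - X - C η) hirr.ne_zero
  let y : K₁ := AdjoinRoot.root _
  have hy : y ^ p - y = algebraMap K K₁ η := by
    have h0 : aeval y (X ^ p - X - C η) = 0 := by rw [AdjoinRoot.aeval_eq, AdjoinRoot.mk_self]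
    simpa [sub_eq_zero] using h0
  -- exponents giving a uniformiser
  obtain ⟨a, b, hab⟩ : ∃ a b : ℕ, p * b = n * a + 1 := by
    have hcop : Nat.Coprime n p := ((Nat.Prime.coprime_iff_not_dvd hp).2 hn).symm
    obtain ⟨a, ha⟩ : ∃ a : ℕ, (n * a + 1 : ZMod p) = 0 := by
      have hn' : (n : ZMod p) ≠ 0 := fun h0 => hn ((CharP.cast_eq_zero_iff (ZMod p) p n).1 h0)
      exact ⟨(-(n : ZMod p)⁻¹).val, by rw [ZMod.natCast_zmod_val]; field_simp; ring⟩
    obtain ⟨b, hb⟩ := (CharP.cast_eq_zero_iff (ZMod p) p (n * a + 1)).1 (by push_cast; exact ha)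
    exact ⟨a, b, hb.symm⟩
  let π₁ := algebraMap K K₁ (algebraMap A K π)
  refine ⟨K₁, inferInstance, inferInstance, y ^ a * π₁ ^ b, y, ⟨hπ, hp.pos, ?_, fun Ω _ W j hW => ?_⟩, ?_, hy⟩
  · rw [pb.finrank, AdjoinRoot.powerBasis_dim]; exact natDegree_asPoly hp η
  · obtain ⟨hlt, hne, h1⟩ := hval Ω W (j.comp (algebraMap K K₁)) hW
    simp only [RingHom.comp_apply] at hlt hne h1
    rw [← hy] at h1
    have hy1 : 1 < W.valuation (j y) := by
      by_contra hle
      push Not at hle
      refine (lt_of_le_of_lt (mul_le_of_le_one_left zero_le ?_) (pow_lt_one₀ zero_le hlt hn0)).ne h1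
      rw [map_sub]
      exact W.valuation.map_sub_le (by rw [map_pow, map_pow]; exact pow_le_one₀ zero_le hle) hle
    rw [map_sub, Valuation.map_sub_eq_of_lt_left _ (by
      rw [map_pow, map_pow]; simpa using pow_lt_pow_right₀ hy1 hp.one_lt), map_pow, map_pow] at h1
    have hv : W.valuation (j π₁) = W.valuation (j (y ^ a * π₁ ^ b)) ^ p := by
      rw [map_mul, map_mul, map_pow, map_pow, map_pow, map_pow, mul_pow, ← pow_mul, ← pow_mul, mul_comm b p, hab,
        pow_succ, ← mul_assoc, mul_comm a p, pow_mul, pow_mul _ n a, ← mul_pow, h1, one_pow, one_mul]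
    refine ⟨?_, hv⟩
    by_contra hge
    exact not_le.2 hlt (le_of_le_of_eq (one_le_pow₀ (not_lt.1 hge)) hv.symm)
  · have hsep : (X ^ p - X - C η : K[X]).Separable := by
      rw [separable_def, derivative_sub, derivative_sub, derivative_X_pow, derivative_X, derivative_C, CharP.cast_eq_zero, C_0,
        zero_mul, zero_sub, sub_zero]
      exact ⟨0, -1, by ring⟩
    have h1 : IsSeparable K pb.gen := by
      refine hsep.of_dvd (minpoly.dvd K _ ?_)
      rw [AdjoinRoot.powerBasis_gen, AdjoinRoot.aeval_eq, AdjoinRoot.mk_self]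
    have h2 := (IntermediateField.isSeparable_adjoin_simple_iff_isSeparable K K₁).2 h1
    have h3 : IntermediateField.adjoin K ({pb.gen} : Set K₁) = ⊤ := top_unique fun w _ =>
      IntermediateField.algebra_adjoin_le_adjoin K _ (pb.adjoin_gen_eq_top ▸ Algebra.mem_top)
    rw [h3] at h2
    exact AlgEquiv.Algebra.isSeparable IntermediateField.topEquiv

end ASWeakLib
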