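import Groth.Agent.ASWeakLib.Main
import Mathlib.FieldTheory.Galois.Basic
import Mathlib.LinearAlgebra.LinearIndependent.Lemmas

/-! Generators of cyclic extensions of degree `p`, and the trivial extension. -/

set_option autoImplicit false
universe u

noncomputable section

namespace ASWeakLib

theorem exists_as_generator {p : ℕ} (hp : p.Prime) (L M : Type u) [Field L] [Field M] [Algebra L M] [CharP L p] [IsGalois L M]
    (hdeg : Module.finrank L M = p) :
    ∃ (z : M) (ξ : L), z ^ p - z = algebraMap L M ξ ∧ Algebra.adjoin L ({z} : Set M) = ⊤ := by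
  classical
  have : Fact p.Prime := ⟨hp⟩
  have : FiniteDimensional L M := FiniteDimensional.of_finrank_pos (hdeg ▸ hp.pos)
  have : CharP M p := charP_of_injective_algebraMap (algebraMap L M).injective p
  have hcard : Nat.card Gal(M/L) = p := by rw [IsGalois.card_aut_eq_finrank, hdeg]
  obtain ⟨σ, hσ⟩ : ∃ σ : Gal(M/L), σ ≠ 1 := by
    have : Finite Gal(M/L) := inferInstance
    have : Nontrivial Gal(M/L) := by
      rw [← Finite.one_lt_card_iff_nontrivial, hcard]; exact hp.one_lt
    exact exists_ne 1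
  have hord : orderOf σ = p := by
    have h1 := orderOf_dvd_natCard σ
    rw [hcard] at h1
    rcases (Nat.dvd_prime hp).1 h1 with h | h
    · exact absurd (orderOf_eq_one_iff.1 h) hσ
    · exact h
  have htop : ∀ τ : Gal(M/L), ∃ i : ℕ, τ = σ ^ i := fun τ => by
    have : τ ∈ Subgroup.zpowers σ := mem_zpowers_of_prime_card hcard hσ
    obtain ⟨i, -, hi⟩ := (mem_powers_iff_mem_range_orderOf.1 ((isOfFinOrder_of_finite σ).mem_powers_iff_mem_zpowers.2 this)) |> Finset.mem_image.1
    exact ⟨i, hi.symm⟩
  have hfix : ∀ m : M, σ m = m → m ∈ Set.range (algebraMap L M) := fun m hm => by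
    refine IntermediateField.mem_bot.1 ((IsGalois.mem_bot_iff_fixed m).2 fun τ => ?_)
    obtain ⟨i, rfl⟩ := htop τ
    induction i with
    | zero => simp
    | succ i ih => rw [pow_succ, AlgEquiv.mul_apply, hm, ih]
  -- an element with non-zero trace
  obtain ⟨m, hm⟩ : ∃ m : M, ∑ i ∈ Finset.range p, (σ ^ i) m ≠ 0 := by
    by_contra hall
    push Not at hall
    let f : Fin p → (M →* M) := fun i => ((σ ^ (i : ℕ) : Gal(M/L)) : M →ₐ[L] M).toRingHom.toMonoidHom
    have hinj : Function.Injective f := fun i j hij => Fin.ext (pow_injOn_Iio_orderOf (x := σ) (by rw [Set.mem_Iio, hord]; exact i.2)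
      (by rw [Set.mem_Iio, hord]; exact j.2) (AlgEquiv.ext fun w => DFunLike.congr_fun hij w))
    have hli := (linearIndependent_monoidHom M M).comp f hinj
    have := Fintype.linearIndependent_iff.1 hli (fun _ => 1) (funext fun w => by
      simp only [Function.comp_apply, one_smul, Finset.sum_apply, Pi.zero_apply]
      show ∑ i : Fin p, (σ ^ (i : ℕ)) w = 0
      rw [Fin.sum_univ_eq_sum_range (fun i => (σ ^ i) w)]
      exact hall w) ⟨0, hp.pos⟩
    exact one_ne_zero this
  have hσp : σ ^ p = 1 := hord ▸ pow_orderOf_eq_one σ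
  let w : M := -∑ i ∈ Finset.range p, (i : M) * (σ ^ i) m
  let S := ∑ i ∈ Finset.range p, (σ ^ i) m
  have hsh : ∀ f : ℕ → M, ∑ i ∈ Finset.range p, (f (i + 1) - f i) = f p - f 0 := fun f => Finset.sum_range_sub f p
  have hS : σ S = S := by
    rw [← sub_eq_zero]
    have h := hsh fun i => (σ ^ i) m
    simp only [hσp, pow_zero, sub_self] at h
    rw [← h, map_sum, ← Finset.sum_sub_distrib]
    exact Finset.sum_congr rfl fun i _ => by rw [pow_succ', AlgEquiv.mul_apply]
  have hw : σ w = w + S := by
    have h := hsh fun i => (i : M) * (σ ^ i) m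
    simp only [CharP.cast_eq_zero, zero_mul, sub_self, Nat.cast_zero, Nat.cast_add, Nat.cast_one] at h
    simp only [w, S, map_neg, map_sum, map_mul, map_natCast]
    rw [← sub_eq_zero, ← neg_eq_zero]
    refine Eq.trans ?_ h
    simp only [pow_succ', AlgEquiv.mul_apply, add_mul, one_mul, Finset.sum_sub_distrib, Finset.sum_add_distrib]
    have hS' : ∑ i ∈ Finset.range p, σ ((σ ^ i) m) = S := by rw [← map_sum]; exact hS
    simp only [hS', S]
    ring
  let z := w / S
  have hz : σ z = z + 1 := by
    simp only [z, map_div₀, hS, hw, add_div, S, div_self hm]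
  obtain ⟨ξ, hξ⟩ := hfix (z ^ p - z) (by rw [map_sub, map_pow, hz, add_pow_char, one_pow]; ring)
  refine ⟨z, ξ, hξ.symm, EtRamStepLib.adjoin_eq_top_of_prime_finrank hp hdeg ?_⟩
  rintro ⟨l, hl⟩
  rw [← hl, AlgEquiv.commutes, left_eq_add] at hz
  exact one_ne_zero hz

theorem trData_self {A K : Type u} [CommRing A] [IsDomain A] [IsDiscreteValuationRing A] [Field K] [Algebra A K]
    [IsFractionRing A K] {π : A} (hπ : Irreducible π) : TRData A K K π 1 (algebraMap A K π) := by
  refine ⟨hπ, Nat.one_pos, Module.finrank_self K, fun Ω _ W j hW => ?_⟩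
  have h := hW.2 π (by rw [hπ.maximalIdeal_eq]; exact Ideal.mem_span_singleton_self π)
  simp only [Algebra.algebraMap_self, RingHom.id_apply, pow_one, RingHom.comp_apply] at h ⊢
  exact ⟨h, trivial⟩

end ASWeakLib
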