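import Mathlib.FieldTheory.IsAlgClosed.AlgebraicClosure
import Mathlib.Algebra.CharP.Frobenius
import Mathlib.RingTheory.Polynomial.Vieta
import Mathlib.FieldTheory.Finite.Basic

/-! Irreducibility of `X ^ p - X - c`. -/

set_option autoImplicit false
universe u

noncomputable section

namespace ASWeakLib

open Polynomial

theorem natDegree_asPoly {k : Type u} [Field k] {p : ℕ} (hp : p.Prime) (c : k) : (X ^ p - X - C c : k[X]).natDegree = p := by
  rw [sub_sub, natDegree_sub_eq_left_of_natDegree_lt, natDegree_X_pow]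
  rw [natDegree_X_pow]
  exact lt_of_le_of_lt ((natDegree_X_add_C c).le) hp.one_lt

theorem monic_asPoly {k : Type u} [Field k] {p : ℕ} (hp : p.Prime) (c : k) : (X ^ p - X - C c : k[X]).Monic := by
  rw [sub_sub]
  refine monic_X_pow_sub ?_
  rw [degree_X_add_C]
  exact_mod_cast hp.one_lt

theorem irreducible_asPoly {k : Type u} [Field k] {p : ℕ} [CharP k p] (hp : p.Prime) (c : k)
    (hc : ∀ r : k, r ^ p - r ≠ c) : Irreducible (X ^ p - X - C c : k[X]) := by
  have : Fact p.Prime := ⟨hp⟩
  let Ω := AlgebraicClosure k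
  have : CharP Ω p := charP_of_injective_algebraMap (algebraMap k Ω).injective p
  have hm := monic_asPoly hp c
  have hdeg := natDegree_asPoly hp c
  refine hm.irreducible_iff_natDegree.2 ⟨fun h => hp.ne_zero (by rw [← hdeg, h, natDegree_one]), ?_⟩
  intro g h hg hh hgh
  by_contra hne
  push Not at hne
  obtain ⟨hg0, hh0⟩ := hne
  have hsum : g.natDegree + h.natDegree = p := by rw [← natDegree_mul hg.ne_zero hh.ne_zero, hgh, hdeg]
  -- every root is a translate of one root
  obtain ⟨r, hr⟩ := IsAlgClosed.exists_root (g.map (algebraMap k Ω)) (by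
    rw [degree_map, degree_eq_natDegree hg.ne_zero]; exact_mod_cast hg0)
  have hroot : ∀ s : Ω, (g.map (algebraMap k Ω)).IsRoot s → s ^ p - s = algebraMap k Ω c := fun s hs => by
    have h1 : aeval s (X ^ p - X - C c : k[X]) = 0 := by
      rw [← hgh, map_mul, aeval_def, ← eval_map, hs, zero_mul]
    simpa [sub_eq_zero] using h1
  have hdiff : ∀ s ∈ (g.map (algebraMap k Ω)).roots, ∃ i : ZMod p, s = r + ZMod.castHom dvd_rfl Ω i := by
    intro s hs
    have h1 := hroot s ((mem_roots (hg.map _).ne_zero).1 hs)
    have h2 := hroot r hr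
    have h3 : (s - r) ^ p = s - r := by rw [sub_pow_char]; linear_combination h1 - h2
    let ι := ZMod.castHom (dvd_refl p) Ω
    have hcard : ((X ^ p - X : (ZMod p)[X]).map ι).roots = (Finset.univ : Finset (ZMod p)).val.map ι := by
      have hroots : (X ^ p - X : (ZMod p)[X]).roots = Finset.univ.val := by
        have := FiniteField.roots_X_pow_card_sub_X (ZMod p)
        rwa [ZMod.card] at this
      rw [← hroots]
      refine (roots_map_of_injective_of_card_eq_natDegree ι.injective ?_).symm
      rw [hroots]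
      have : (X ^ p - X : (ZMod p)[X]).natDegree = p := FiniteField.X_pow_card_sub_X_natDegree_eq (ZMod p) hp.one_lt
      rw [this, Finset.card_val, Finset.card_univ, ZMod.card]
    have h4 : s - r ∈ ((X ^ p - X : (ZMod p)[X]).map ι).roots := by
      rw [mem_roots]
      · simp [h3]
      · rw [Polynomial.map_ne_zero_iff ι.injective]
        exact FiniteField.X_pow_card_sub_X_ne_zero (ZMod p) hp.one_lt
    rw [hcard, Multiset.mem_map] at h4
    obtain ⟨i, -, hi⟩ := h4
    exact ⟨i, by rw [hi]; ring⟩
  choose! idx hidx using hdiff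
  have hsplit : (g.map (algebraMap k Ω)).Splits := IsAlgClosed.splits _
  have hcard : (g.map (algebraMap k Ω)).roots.card = g.natDegree := by
    rw [← hsplit.natDegree_eq_card_roots, natDegree_map]
  have hsumroots : (g.map (algebraMap k Ω)).roots.sum =
      (g.natDegree : Ω) * r + ZMod.castHom dvd_rfl Ω ((g.map (algebraMap k Ω)).roots.map idx).sum := by
    conv_lhs => rw [← Multiset.map_id' (g.map (algebraMap k Ω)).roots, Multiset.map_congr rfl hidx]
    rw [Multiset.sum_map_add, Multiset.map_const', Multiset.sum_replicate, hcard, nsmul_eq_mul, map_multiset_sum,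
      Multiset.map_map]
    rfl
  have hvieta := hsplit.nextCoeff_eq_neg_sum_roots_of_monic (hg.map _)
  rw [nextCoeff_map (algebraMap k Ω).injective, hsumroots] at hvieta
  have hd : (g.natDegree : k) ≠ 0 := fun h0 => by
    rw [CharP.cast_eq_zero_iff k p] at h0
    exact absurd (Nat.le_of_dvd (Nat.pos_of_ne_zero hg0) h0) (by omega)
  let r₀ : k := (-(g.nextCoeff) - ZMod.castHom dvd_rfl k ((g.map (algebraMap k Ω)).roots.map idx).sum) / g.natDegree
  have hr0 : algebraMap k Ω r₀ = r := by
    have e : algebraMap k Ω (ZMod.castHom dvd_rfl k ((g.map (algebraMap k Ω)).roots.map idx).sum) =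
        ZMod.castHom dvd_rfl Ω ((g.map (algebraMap k Ω)).roots.map idx).sum :=
      RingHom.congr_fun (Subsingleton.elim ((algebraMap k Ω).comp (ZMod.castHom dvd_rfl k)) (ZMod.castHom dvd_rfl Ω)) _
    have hd' : (g.natDegree : Ω) ≠ 0 := by rw [← map_natCast (algebraMap k Ω)]; exact (_root_.map_ne_zero _).2 hd
    rw [map_div₀, map_sub, map_neg, e, map_natCast, hvieta, div_eq_iff hd']
    ring
  refine hc r₀ ((algebraMap k Ω).injective ?_)
  rw [map_sub, map_pow, hr0]
  exact hroot r hr

end ASWeakLib
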