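import Groth.Agent.ASWeakLib.Ext
import Groth.Agent.ASWeakLib.Expand

/-! Reduction of the principal part and the criterion for a weak solution. -/

set_option autoImplicit false
universe u

noncomputable section

namespace ASWeakLib

variable {p : ℕ} (hp : p.Prime)
include hp

theorem sub_pow_eq {F : Type u} [Field F] [CharP F p] (r : F) (s : ℕ) : ∃ t : F, r ^ p ^ s = r + (t ^ p - t) := by
  have : Fact p.Prime := ⟨hp⟩
  induction s with
  | zero => exact ⟨0, by simp [zero_pow hp.ne_zero]⟩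
  | succ s ih =>
    obtain ⟨t, ht⟩ := ih
    exact ⟨t + r ^ p ^ s, by rw [add_pow_char, pow_succ, pow_mul]; linear_combination ht⟩

/-- After the ramified base change the largest exponent dominates. -/
theorem exists_reduced {F : Type u} [Field F] [CharP F p] {Γ : Type u} [LinearOrderedCommGroupWithZero Γ] (v : Valuation F Γ)
    {x P : F} (hx0 : x ≠ 0) (hx : v x < 1) {q k n N : ℕ} (hq : q = p ^ k) (hvP : v P = v x ^ q)
    (hP : v (x ^ q - P) ≤ v x ^ (q * n)) (hn : 2 * N ≤ n) (I : Finset ℕ) (hI : ∀ i ∈ I, i ≤ N) (s : ℕ → ℕ)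
    (hs : ∀ i ∈ I, s i ≤ k) (c : ℕ → F) (hc : ∀ i ∈ I, v (c i) ≤ 1) {i₀ : ℕ} (hi₀ : i₀ ∈ I) (h1 : 1 ≤ i₀)
    (hmax : ∀ i ∈ I, i ≠ i₀ → i * p ^ (k - s i) < i₀ * p ^ (k - s i₀)) :
    ∃ η t : F, ∑ i ∈ I, c i ^ p ^ s i / P ^ i = η + (t ^ p - t) ∧ v (η * x ^ (i₀ * p ^ (k - s i₀))) ≤ 1 ∧
      v (η * x ^ (i₀ * p ^ (k - s i₀)) - c i₀) < 1 := by
  classical
  have : Fact p.Prime := ⟨hp⟩
  have hvx : 0 < v x := zero_lt_iff.2 ((_root_.map_ne_zero _).2 hx0)
  have hP0 : P ≠ 0 := fun h => by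
    rw [h, map_zero] at hvP
    exact pow_ne_zero _ hvx.ne' hvP.symm
  have key : ∀ i ∈ I, ∃ r t : F, v r ≤ 1 ∧ c i ^ p ^ s i / P ^ i = c i / x ^ (i * p ^ (k - s i)) + r + (t ^ p - t) := by
    intro i hi
    obtain ⟨t, ht⟩ := sub_pow_eq hp (c i / x ^ (i * p ^ (k - s i))) (s i)
    refine ⟨c i ^ p ^ s i * (1 / P ^ i - 1 / (x ^ q) ^ i), t, ?_, ?_⟩
    · rw [map_mul, map_pow]
      refine mul_le_one' (pow_le_one₀ zero_le (hc i hi)) ?_
      have hd : v ((x ^ q) ^ i - P ^ i) ≤ v x ^ (q * n) := by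
        rw [← geom_sum₂_mul, map_mul]
        refine (mul_le_of_le_one_left zero_le (Valuation.map_sum_le _ fun j _ => ?_)).trans hP
        rw [map_mul, map_pow, map_pow, map_pow, hvP]
        exact mul_le_one' (pow_le_one₀ zero_le (pow_le_one₀ zero_le hx.le)) (pow_le_one₀ zero_le (pow_le_one₀ zero_le hx.le))
      rw [div_sub_div _ _ (pow_ne_zero _ hP0) (pow_ne_zero _ (pow_ne_zero _ hx0)), one_mul, mul_one, map_div₀]
      refine div_le_one_of_le₀ (hd.trans ?_) zero_le
      rw [map_mul, map_pow, map_pow, map_pow, hvP, ← pow_mul, ← pow_add]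
      refine pow_le_pow_of_le_one zero_le hx.le ?_
      rw [← Nat.mul_add]
      exact Nat.mul_le_mul_left q (by have := hI i hi; omega)
    · rw [div_pow, ← pow_mul x, mul_assoc, ← pow_add, Nat.sub_add_cancel (hs i hi), ← hq, mul_comm i q, pow_mul] at ht
      rw [mul_sub, mul_one_div, mul_one_div]
      linear_combination ht
  choose! r t hr hrt using key
  let E := i₀ * p ^ (k - s i₀)
  have hE : 1 ≤ E := Nat.one_le_iff_ne_zero.2 (Nat.mul_ne_zero (by omega) (pow_ne_zero _ hp.ne_zero))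
  refine ⟨∑ i ∈ I, (c i / x ^ (i * p ^ (k - s i)) + r i), ∑ i ∈ I, t i, ?_, ?_⟩
  · rw [sum_pow_char, ← Finset.sum_sub_distrib, ← Finset.sum_add_distrib]
    exact Finset.sum_congr rfl fun i hi => hrt i hi
  have hlt : v ((∑ i ∈ I, (c i / x ^ (i * p ^ (k - s i)) + r i)) * x ^ E - c i₀) < 1 := by
    rw [Finset.sum_mul, ← Finset.add_sum_erase _ _ hi₀, add_mul, div_mul_cancel₀ _ (pow_ne_zero _ hx0),
      show c i₀ + r i₀ * x ^ E + ∑ i ∈ I.erase i₀, (c i / x ^ (i * p ^ (k - s i)) + r i) * x ^ E - c i₀ =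
        r i₀ * x ^ E + ∑ i ∈ I.erase i₀, (c i / x ^ (i * p ^ (k - s i)) + r i) * x ^ E by ring]
    have hrx : ∀ i ∈ I, v (r i * x ^ E) < 1 := fun i hi => by
      rw [map_mul, map_pow]
      exact mul_lt_one_of_nonneg_of_lt_one_right (hr i hi) zero_le (pow_lt_one₀ zero_le hx (by omega))
    refine Valuation.map_add_lt _ (hrx i₀ hi₀) (Valuation.map_sum_lt _ one_ne_zero fun i hi => ?_)
    obtain ⟨hne, hiI⟩ := Finset.mem_erase.1 hi
    rw [add_mul]
    refine Valuation.map_add_lt _ ?_ (hrx i hiI)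
    obtain ⟨d, hd⟩ : ∃ d, E = i * p ^ (k - s i) + (d + 1) :=
      ⟨E - (i * p ^ (k - s i)) - 1, by have : i * p ^ (k - s i) < E := hmax i hiI hne; omega⟩
    rw [hd, pow_add, ← mul_assoc, div_mul_cancel₀ _ (pow_ne_zero _ hx0), map_mul, map_pow]
    exact mul_lt_one_of_nonneg_of_lt_one_right (hc i hiI) zero_le (pow_lt_one₀ zero_le hx (Nat.succ_ne_zero d))
  refine ⟨?_, hlt⟩
  rw [← sub_add_cancel ((∑ i ∈ I, (c i / x ^ (i * p ^ (k - s i)) + r i)) * x ^ E) (c i₀)]
  exact v.map_add_le hlt.le (hc i₀ hi₀)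

omit hp in
/-- The field generated by the image of the uniformiser over `L`. -/
abbrev compF (L : Type u) {K₁ Ω : Type u} [Field L] [Field K₁] [Field Ω] [Algebra L Ω] [Algebra K₁ Ω] (x : K₁) :
    IntermediateField L Ω :=
  IntermediateField.adjoin L {algebraMap K₁ Ω x}

omit hp in
/-- The uniformiser inside it. -/
abbrev compX (L : Type u) {K₁ : Type u} (Ω : Type u) [Field L] [Field K₁] [Field Ω] [Algebra L Ω] [Algebra K₁ Ω] (x : K₁) :
    compF L (Ω := Ω) x :=
  ⟨algebraMap K₁ Ω x, IntermediateField.mem_adjoin_simple_self L _⟩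

theorem isWeakSolution {A B C K L M K₁ : Type u} [CommRing A] [IsDomain A] [IsDiscreteValuationRing A] [CommRing B] [IsDomain B]
    [IsDiscreteValuationRing B] [CommRing C] [IsLocalRing C] [Field K] [Field L] [Field M] [Field K₁] [Algebra A K] [IsFractionRing A K]
    [Algebra K K₁] [Algebra B L] [IsFractionRing B L] [Algebra A B] [IsLocalHom (algebraMap A B)] [Algebra K L] [Algebra L M]
    [Algebra K M] [IsScalarTower K L M] [Algebra B C] [IsLocalHom (algebraMap B C)] [Algebra C M]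
    (hBCM : ∀ b : B, algebraMap C M (algebraMap B C b) = algebraMap L M (algebraMap B L b)) [CharP L p]
    {π : A} {e : ℕ} {x : K₁} (h : TRData A K K₁ π e x) (hπB : Irreducible (algebraMap A B π))
    (hA : ∀ a : A, algebraMap K L (algebraMap A K a) = algebraMap B L (algebraMap A B a))
    {z : M} {ξ : L} (hz : z ^ p - z = algebraMap L M ξ) (hgen : Algebra.adjoin L ({z} : Set M) = ⊤)
    (hred : ∀ (Ω : Type u) [Field Ω] [Algebra K Ω] [Algebra L Ω] [Algebra K₁ Ω] [IsScalarTower K L Ω] [IsScalarTower K K₁ Ω]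
      (W : ValuationSubring Ω), EtRam.Dominates B ((algebraMap L Ω).comp (algebraMap B L)) W →
      ∃ η t : compF L (Ω := Ω) x, algebraMap L (compF L (Ω := Ω) x) ξ = η + (t ^ p - t) ∧
        (W.valuation (η : Ω) ≤ 1 ∨ ∃ l : ℕ, 1 ≤ l ∧ W.valuation ((η * compX L Ω x ^ (p * l) : compF L (Ω := Ω) x) : Ω) ≤ 1 ∧
          ∀ s : compF L (Ω := Ω) x, W.valuation (s : Ω) ≤ 1 →
            1 ≤ W.valuation ((η * compX L Ω x ^ (p * l) - s ^ p : compF L (Ω := Ω) x) : Ω))) :
    EtRam.IsWeakSolution C K M K₁ := by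
  intro Ω _ _ _ _ _ _ hgenΩ W hW
  have : Fact p.Prime := ⟨hp⟩
  let _ : Algebra L Ω := ((algebraMap M Ω).comp (algebraMap L M)).toAlgebra
  have : IsScalarTower L M Ω := IsScalarTower.of_algebraMap_eq fun _ => rfl
  have : IsScalarTower K L Ω := IsScalarTower.of_algebraMap_eq fun c => by
    rw [IsScalarTower.algebraMap_apply K M Ω, IsScalarTower.algebraMap_apply K L M, ← IsScalarTower.algebraMap_apply L M Ω]
  have : CharP Ω p := charP_of_injective_algebraMap (algebraMap L Ω).injective p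
  have hW' : EtRam.Dominates B ((algebraMap L Ω).comp (algebraMap B L)) W := by
    have he : ∀ b, ((algebraMap L Ω).comp (algebraMap B L)) b = ((algebraMap M Ω).comp (algebraMap C M)) (algebraMap B C b) :=
      fun b => by simp [hBCM, ← IsScalarTower.algebraMap_apply]
    exact ⟨fun b => he b ▸ hW.1 _, fun b hb => he b ▸ hW.2 _ fun hu => hb (IsUnit.of_map (algebraMap B C) b hu)⟩
  obtain ⟨hK₁, hU, -⟩ := h.core hπB hA W hW'
  let F := compF L (Ω := Ω) x
  have : CharP F p := charP_of_injective_algebraMap (algebraMap L F).injective p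
  obtain ⟨η, t, hξ, hcase⟩ := hred Ω W hW'
  let z' : Ω := algebraMap M Ω z - (t : Ω)
  have hzΩ : z' ^ p - z' = F.val.toRingHom η := by
    have h1 : algebraMap L Ω ξ = (η : Ω) + ((t : Ω) ^ p - (t : Ω)) := by
      have := congrArg (fun w : F => (w : Ω)) hξ
      simpa using this
    have h2 : algebraMap M Ω z ^ p - algebraMap M Ω z = algebraMap L Ω ξ := by
      rw [← map_pow, ← map_sub, hz, ← IsScalarTower.algebraMap_apply]
    show (algebraMap M Ω z - (t : Ω)) ^ p - (algebraMap M Ω z - (t : Ω)) = (η : Ω)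
    rw [sub_pow_char]
    linear_combination h2 + h1
  have hspan : ∀ ω : Ω, ∃ c : Fin p → F, ω = ∑ i : Fin p, F.val.toRingHom (c i) * z' ^ (i : ℕ) := by
    intro ω
    have hω : ω ∈ Algebra.adjoin F ({z'} : Set Ω) := by
      have hM : ∀ m : M, algebraMap M Ω m ∈ Algebra.adjoin F ({z'} : Set Ω) := fun m => by
        have hm : m ∈ Algebra.adjoin L ({z} : Set M) := hgen ▸ Algebra.mem_top
        induction hm using Algebra.adjoin_induction with
        | mem w hw =>
          rw [Set.mem_singleton_iff.1 hw, show algebraMap M Ω z = z' + algebraMap F Ω t by simp [z']]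
          exact add_mem (Algebra.self_mem_adjoin_singleton F _) (Subalgebra.algebraMap_mem _ _)
        | algebraMap l =>
          rw [← IsScalarTower.algebraMap_apply, IsScalarTower.algebraMap_apply L F Ω]
          exact Subalgebra.algebraMap_mem _ _
        | add a b _ _ ha hb => rw [map_add]; exact add_mem ha hb
        | mul a b _ _ ha hb => rw [map_mul]; exact mul_mem ha hb
      have hω' : ω ∈ Algebra.adjoin M (Set.range (algebraMap K₁ Ω)) := hgenΩ ▸ Algebra.mem_top
      induction hω' using Algebra.adjoin_induction with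
      | mem w hw =>
        obtain ⟨k, rfl⟩ := hw
        exact Subalgebra.algebraMap_mem _ (⟨_, hK₁ k⟩ : F)
      | algebraMap m => exact hM m
      | add a b _ _ ha hb => exact add_mem ha hb
      | mul a b _ _ ha hb => exact mul_mem ha hb
    rw [Algebra.adjoin_singleton_eq_range_aeval] at hω
    obtain ⟨Q, hQ⟩ := hω
    let f : Polynomial F := Polynomial.X ^ p - Polynomial.X - Polynomial.C η
    have hf : f.Monic := monic_asPoly hp η
    have hroot : Polynomial.aeval z' f = 0 := by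
      simp only [f, map_sub, map_pow, Polynomial.aeval_X, Polynomial.aeval_C]
      exact sub_eq_zero.2 hzΩ
    refine ⟨fun i => (Q %ₘ f).coeff i, ?_⟩
    rw [← hQ]
    change Polynomial.aeval z' Q = _
    rw [← Polynomial.aeval_modByMonic_eq_self_of_root hroot, Polynomial.aeval_eq_sum_range' (n := p) ?_,
      Finset.sum_range]
    · exact Finset.sum_congr rfl fun i _ => Algebra.smul_def _ _
    · exact lt_of_lt_of_eq (Polynomial.natDegree_modByMonic_lt Q hf (fun h1 => hp.ne_zero (by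
        rw [← natDegree_asPoly hp η]; exact (congrArg Polynomial.natDegree h1).trans Polynomial.natDegree_one))) (natDegree_asPoly hp η)
  have hU' := unif_asStep (W := W) (ι := F.val.toRingHom) hp hU hspan hzΩ hcase
  exact EtRamStepLib.weaklyUnramified_of_le W (algebraMap K₁ Ω) x hU.lt fun w hw => hU'.le_of_lt_one hw

end ASWeakLib
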