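import Groth.Agent.EtRamStepLib.Setup
import Groth.Agent.ASWeakLib.Irred
import Mathlib.RingTheory.DiscreteValuationRing.TFAE

/-! Uniformisers of valuation rings and Artin–Schreier steps without ramification. -/

set_option autoImplicit false
universe u

noncomputable section

namespace ASWeakLib

open Polynomial

variable {Ω : Type u} [Field Ω] (W : ValuationSubring Ω)

/-- Every non-zero element of the image has the valuation of a power of the image of `x`. -/
structure Unif {F : Type u} [Field F] (ι : F →+* Ω) (x : F) : Prop where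
  ne : x ≠ 0
  lt : W.valuation (ι x) < 1
  gen : ∀ z : F, z ≠ 0 → ∃ k : ℤ, W.valuation (ι z) = W.valuation (ι x) ^ k

variable {W} {F : Type u} [Field F] {ι : F →+* Ω} {x : F}

theorem Unif.val_pos (h : Unif W ι x) : 0 < W.valuation (ι x) :=
  zero_lt_iff.2 ((_root_.map_ne_zero _).2 ((_root_.map_ne_zero _).2 h.ne))

theorem Unif.le_of_lt_one (h : Unif W ι x) {z : F} (hz : W.valuation (ι z) < 1) :
    W.valuation (ι z) ≤ W.valuation (ι x) := by
  by_cases hz0 : z = 0
  · simp [hz0]
  obtain ⟨k, hk⟩ := h.gen z hz0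
  rw [hk] at hz ⊢
  have hk1 : 1 ≤ k := by
    by_contra hlt
    push Not at hlt
    exact not_le.2 hz (one_le_zpow_of_nonpos₀ h.val_pos h.lt.le (by omega))
  obtain ⟨n, rfl⟩ : ∃ n : ℕ, k = n + 1 := ⟨(k - 1).toNat, by omega⟩
  rw [show ((n : ℤ) + 1) = ((n + 1 : ℕ) : ℤ) by push_cast; rfl, zpow_natCast, pow_succ']
  exact mul_le_of_le_one_right zero_le (pow_le_one₀ zero_le h.lt.le)

theorem Unif.exists_pow_le (h : Unif W ι x) {z : F} (hz : z ≠ 0) :
    ∃ N : ℕ, W.valuation (ι x) ^ N < W.valuation (ι z) := by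
  obtain ⟨k, hk⟩ := h.gen z hz
  refine ⟨k.natAbs + 1, ?_⟩
  rw [hk, ← zpow_natCast]
  exact zpow_lt_zpow_right_of_lt_one₀ h.val_pos h.lt (by push_cast; have := le_abs_self k; omega)

theorem Unif.isDVR (h : Unif W ι x) : IsDiscreteValuationRing (W.comap ι) := by
  classical
  have hxW : x ∈ W.comap ι := (W.valuation_le_one_iff _).1 h.lt.le
  let X₀ : W.comap ι := ⟨x, hxW⟩
  have hirr : Irreducible X₀ := by
    refine ⟨fun hu => ?_, fun a b hab => ?_⟩
    · obtain ⟨b, hb⟩ := isUnit_iff_exists_inv.1 hu
      have h1 : W.valuation (ι x) * W.valuation (ι (b : F)) = 1 := by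
        rw [← map_mul, ← map_mul, show x * (b : F) = 1 from congrArg Subtype.val hb, map_one, map_one]
      exact (mul_lt_one_of_nonneg_of_lt_one_left zero_le h.lt ((W.valuation_le_one_iff _).2 b.2)).ne h1
    · by_contra hne
      push Not at hne
      have hlt : ∀ c : W.comap ι, ¬ IsUnit c → W.valuation (ι (c : F)) < 1 := fun c hc => by
        refine lt_of_le_of_ne ((W.valuation_le_one_iff _).2 c.2) fun h1 => hc ?_
        have hc0 : (c : F) ≠ 0 := fun e => by simp [e] at h1
        refine IsUnit.of_mul_eq_one (⟨(c : F)⁻¹, ?_⟩ : W.comap ι) (Subtype.ext (mul_inv_cancel₀ hc0))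
        exact (W.valuation_le_one_iff _).1 (by rw [map_inv₀, map_inv₀, h1, inv_one])
      have h1 : W.valuation (ι x) = W.valuation (ι (a : F)) * W.valuation (ι (b : F)) := by
        rw [← map_mul, ← map_mul, show x = (a : F) * b from congrArg Subtype.val hab]
      have ha := hlt a hne.1
      have hb := h.le_of_lt_one (hlt b hne.2)
      exact (lt_of_le_of_lt (mul_le_mul' le_rfl hb) (mul_lt_of_lt_one_left h.val_pos ha)).ne h1.symm
  refine IsDiscreteValuationRing.ofHasUnitMulPowIrreducibleFactorization ⟨X₀, hirr, fun {y} hy => ?_⟩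
  have hy0 : (y : F) ≠ 0 := fun e => hy (Subtype.ext e)
  obtain ⟨k, hk⟩ := h.gen y hy0
  have hk0 : 0 ≤ k := by
    by_contra hlt
    push Not at hlt
    have h1 := (W.valuation_le_one_iff _).2 y.2
    rw [hk] at h1
    exact not_lt.2 h1 (one_lt_zpow_of_neg₀ h.val_pos h.lt hlt)
  obtain ⟨n, rfl⟩ := Int.eq_ofNat_of_zero_le hk0
  rw [zpow_natCast] at hk
  refine ⟨n, ?_⟩
  have hq : W.valuation (ι ((y : F) / x ^ n)) = 1 := by
    rw [map_div₀, map_div₀, hk, map_pow, map_pow, div_self (pow_ne_zero _ h.val_pos.ne')]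
  have hxn : x ^ n ≠ 0 := pow_ne_zero _ h.ne
  have hqi : W.valuation (ι (x ^ n / (y : F))) = 1 := by
    rw [← inv_div, map_inv₀, map_inv₀, hq, inv_one]
  refine Associated.symm ⟨⟨⟨x ^ n / (y : F), (W.valuation_le_one_iff _).1 hqi.le⟩, ⟨(y : F) / x ^ n, (W.valuation_le_one_iff _).1 hq.le⟩,
    Subtype.ext (by show x ^ n / (y : F) * ((y : F) / x ^ n) = 1; field_simp),
    Subtype.ext (by show (y : F) / x ^ n * (x ^ n / (y : F)) = 1; field_simp)⟩, Subtype.ext ?_⟩
  show (y : F) * (x ^ n / (y : F)) = ((X₀ ^ n : W.comap ι) : F)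
  simp only [SubmonoidClass.coe_pow, X₀]
  field_simp

/-- Uniformisers from layers. -/
theorem unif_of_layer {B Ω' F' : Type u} [CommRing B] [IsDomain B] [IsDiscreteValuationRing B] [Field Ω'] [Field F']
    {W : ValuationSubring Ω'} {g : B →+* Ω'} {π : B} {e : ℕ} {ι : F' →+* Ω'} {x : F'} {J : Type} [Fintype J] {ev : J → Ω'}
    (h : EtRamStepLib.Layer W g e (ι x) ev π) (he : 0 < e)
    (hcl : ∀ z : F', EtRamStepLib.Cleared g π e (ι x) ev (ι z)) : Unif W ι x := by
  refine ⟨fun hx => h.pos (by rw [hx, map_zero]), h.lt, fun z hz => ?_⟩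
  have hz' : ι z ≠ 0 := (_root_.map_ne_zero _).2 hz
  obtain ⟨k, b, hb⟩ := hcl z
  have hne : ∃ i j, b i j ≠ 0 := by
    by_contra hall
    push Not at hall
    have hgk : g (π ^ k) ≠ 0 := by
      intro h0
      have := congrArg W.valuation h0
      rw [map_pow, map_pow, h.pow, map_zero] at this
      exact pow_ne_zero _ (pow_ne_zero _ ((_root_.map_ne_zero _).2 h.pos)) this
    simp [hall, mul_eq_zero, hgk, hz', -map_pow] at hb
  obtain ⟨m, hm, -⟩ := h.sum he b hne
  refine ⟨(m : ℤ) - (e * k : ℕ), ?_⟩
  have hv := congrArg W.valuation hb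
  rw [map_mul, map_pow, map_pow, h.pow, hm, ← pow_mul] at hv
  have h0 : W.valuation (ι x) ≠ 0 := (_root_.map_ne_zero _).2 h.pos
  rw [zpow_sub₀ h0, zpow_natCast, zpow_natCast, eq_div_iff (pow_ne_zero _ h0), mul_comm]
  exact hv

variable {p : ℕ} (hp : p.Prime) [CharP Ω p]
include hp

/-- An Artin–Schreier step without ramification. -/
theorem unif_asStep [CharP F p] (hU : Unif W ι x) {z : Ω}
    (hspan : ∀ ω : Ω, ∃ c : Fin p → F, ω = ∑ i : Fin p, ι (c i) * z ^ (i : ℕ))
    {ξ : F} (hz : z ^ p - z = ι ξ)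
    (hcase : W.valuation (ι ξ) ≤ 1 ∨ ∃ l : ℕ, 1 ≤ l ∧ W.valuation (ι (ξ * x ^ (p * l))) ≤ 1 ∧
      ∀ s : F, W.valuation (ι s) ≤ 1 → 1 ≤ W.valuation (ι (ξ * x ^ (p * l) - s ^ p))) :
    Unif W (RingHom.id Ω) (ι x) := by
  classical
  have : Fact p.Prime := ⟨hp⟩
  let B := W.comap ι
  have hB : IsDiscreteValuationRing B := hU.isDVR
  let g : B →+* Ω := ι.comp B.subtype
  have hdom : (∀ b : B, g b ∈ W) ∧ ∀ b : B, b ∈ IsLocalRing.maximalIdeal B → W.valuation (g b) < 1 := by
    refine ⟨fun b => b.2, fun b hb => lt_of_le_of_ne ((W.valuation_le_one_iff _).2 b.2) fun h1 => hb ?_⟩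
    have hb0 : (b : F) ≠ 0 := fun e => by simp [g, e] at h1
    refine IsUnit.of_mul_eq_one (⟨(b : F)⁻¹, ?_⟩ : B) (Subtype.ext (mul_inv_cancel₀ hb0))
    exact (W.valuation_le_one_iff _).1 (by rw [map_inv₀, map_inv₀, show W.valuation (ι (b : F)) = 1 from h1, inv_one])
  let X₀ : B := ⟨x, (W.valuation_le_one_iff _).1 hU.lt.le⟩
  have hX₀ : Irreducible X₀ := by
    refine (IsDiscreteValuationRing.irreducible_iff_uniformizer _).2 (le_antisymm (fun b hb => ?_) ?_)
    · have hq : W.valuation (ι ((b : F) / x)) ≤ 1 := by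
        rw [map_div₀, map_div₀]
        exact div_le_one_of_le₀ (hU.le_of_lt_one (hdom.2 b hb)) zero_le
      refine Ideal.mem_span_singleton.2 ⟨⟨_, (W.valuation_le_one_iff _).1 hq⟩, Subtype.ext ?_⟩
      show (b : F) = x * ((b : F) / x)
      rw [mul_div_cancel₀ _ hU.ne]
    · rw [Ideal.span_singleton_le_iff_mem]
      intro hu
      obtain ⟨c, hc⟩ := isUnit_iff_exists_inv.1 hu
      have h1 : W.valuation (ι x) * W.valuation (g c) = 1 := by
        rw [← map_mul]; show W.valuation (ι x * ι (c : F)) = 1
        rw [← map_mul]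
        rw [show x * (c : F) = 1 from congrArg Subtype.val hc, map_one, map_one]
      exact (mul_lt_one_of_nonneg_of_lt_one_left zero_le hU.lt ((W.valuation_le_one_iff _).2 c.2)).ne h1
  let y := ι x
  have hy0 : y ≠ 0 := (_root_.map_ne_zero _).2 hU.ne
  -- clearing in a layer with one exponent
  have hclear : ∀ (e : Fin p → Ω), (∀ ω : Ω, ∃ c : Fin p → F, ω = ∑ i : Fin p, ι (c i) * e i) →
      ∀ ω, EtRamStepLib.Cleared g X₀ 1 y e ω := by
    intro e he ω
    obtain ⟨c, rfl⟩ := he ω
    refine Finset.sum_induction _ _ (fun _ _ => EtRamStepLib.Cleared.add) EtRamStepLib.Cleared.zero fun i _ => ?_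
    by_cases hc : c i = 0
    · rw [hc, map_zero, zero_mul]; exact EtRamStepLib.Cleared.zero
    obtain ⟨k, hk⟩ := hU.gen (c i) hc
    have hmem : x ^ k.natAbs * c i ∈ B := (W.valuation_le_one_iff _).1 (by
      rw [map_mul, map_mul, map_pow, map_pow, hk, ← zpow_natCast, ← zpow_add₀ hU.val_pos.ne']
      exact zpow_le_one₀ hU.val_pos hU.lt.le (by omega))
    refine ⟨k.natAbs, fun _ j => if j = i then ⟨_, hmem⟩ else 0, ?_⟩
    rw [Fin.sum_univ_one, Finset.sum_eq_single i (fun j _ hne => by simp [hne]) (fun h => absurd (Finset.mem_univ i) h)]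
    simp [g, X₀, y, map_pow, mul_assoc]
  have hres : ∀ (s : F) (hs : W.valuation (ι s) ≤ 1), s ∈ B := fun s hs => (W.valuation_le_one_iff _).1 hs
  rcases hcase with hint | ⟨l, hl, hle, hnp⟩
  · let c₀ : B := ⟨ξ, hres ξ hint⟩
    have hzW : W.valuation z ≤ 1 := by
      by_contra hgt
      push Not at hgt
      have h1 : W.valuation (z ^ p) ≤ W.valuation z := by
        rw [show z ^ p = ι ξ + z by rw [← hz]; ring]
        exact W.valuation.map_add_le (hint.trans hgt.le) le_rfl
      rw [map_pow] at h1
      have h2 := pow_lt_pow_right₀ hgt hp.one_lt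
      rw [pow_one] at h2
      exact not_le.2 h2 h1
    by_cases hroot : ∃ r : B, r ^ p - r - c₀ ∈ IsLocalRing.maximalIdeal B
    · -- the step is immediate: `z` is approximated in the base
      obtain ⟨r₀, hr₀⟩ := hroot
      have hz1 : W.valuation (z - g r₀) < 1 ∨ ∃ i : ZMod p, W.valuation (z - g r₀ - ZMod.castHom dvd_rfl Ω i) < 1 := by
        right
        have h0 : W.valuation ((z - g r₀) ^ p - (z - g r₀)) < 1 := by
          rw [sub_pow_char, show z ^ p - g r₀ ^ p - (z - g r₀) = (z ^ p - z) - (g r₀ ^ p - g r₀) by ring, hz,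
            Valuation.map_sub_swap]
          have := hdom.2 _ hr₀
          simpa [g, c₀, map_sub, map_pow] using this
        let w : W := ⟨z - g r₀, W.sub_mem ((W.valuation_le_one_iff _).1 hzW) r₀.2⟩
        have hw : (IsLocalRing.residue W w) ^ p = IsLocalRing.residue W w := by
          rw [← sub_eq_zero, ← map_pow, ← map_sub, IsLocalRing.residue_eq_zero_iff, W.valuation_lt_one_iff]
          exact h0
        have hp0 : (p : IsLocalRing.ResidueField W) = 0 := by
          have hp0 : (p : W) = 0 := Subtype.ext (by simp)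
          rw [← map_natCast (IsLocalRing.residue W) p, hp0, map_zero]
        have : CharP (IsLocalRing.ResidueField W) p := (CharP.charP_iff_prime_eq_zero hp).2 hp0
        let ι₀ := ZMod.castHom (dvd_refl p) (IsLocalRing.ResidueField W)
        have hcard : ((X ^ p - X : (ZMod p)[X]).map ι₀).roots = (Finset.univ : Finset (ZMod p)).val.map ι₀ := by
          have hroots : (X ^ p - X : (ZMod p)[X]).roots = Finset.univ.val := by
            have := FiniteField.roots_X_pow_card_sub_X (ZMod p)
            rwa [ZMod.card] at this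
          rw [← hroots]
          refine (roots_map_of_injective_of_card_eq_natDegree ι₀.injective ?_).symm
          rw [hroots]
          have : (X ^ p - X : (ZMod p)[X]).natDegree = p := FiniteField.X_pow_card_sub_X_natDegree_eq (ZMod p) hp.one_lt
          rw [this, Finset.card_val, Finset.card_univ, ZMod.card]
        have h4 : IsLocalRing.residue W w ∈ ((X ^ p - X : (ZMod p)[X]).map ι₀).roots := by
          rw [mem_roots]
          · simp [hw]
          · rw [Polynomial.map_ne_zero_iff ι₀.injective]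
            exact FiniteField.X_pow_card_sub_X_ne_zero (ZMod p) hp.one_lt
        rw [hcard, Multiset.mem_map] at h4
        obtain ⟨i, -, hi⟩ := h4
        refine ⟨i, ?_⟩
        obtain ⟨n, rfl⟩ := ZMod.natCast_zmod_surjective i
        have h5 : IsLocalRing.residue W (w - (n : W)) = 0 := by
          rw [map_sub, map_natCast, ← hi, map_natCast, sub_self]
        rw [IsLocalRing.residue_eq_zero_iff, W.valuation_lt_one_iff] at h5
        simpa [w] using h5
      -- a first approximation
      obtain ⟨r₁, hr₁⟩ : ∃ r : F, W.valuation (z - ι r) < 1 := by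
        rcases hz1 with h | ⟨i, hi⟩
        · exact ⟨(r₀ : F), h⟩
        · refine ⟨(r₀ : F) + ZMod.castHom dvd_rfl F i, ?_⟩
          rw [map_add, ← RingHom.comp_apply ι, Subsingleton.elim (ι.comp (ZMod.castHom dvd_rfl F)) (ZMod.castHom dvd_rfl Ω),
            ← sub_sub]
          exact hi
      have hd1 : W.valuation (z - ι r₁) ≤ W.valuation (ι x) := by
        have h1 : z - ι r₁ = (z - ι r₁) ^ p - ι (ξ - (r₁ ^ p - r₁)) := by
          rw [sub_pow_char, map_sub, map_sub, map_pow, ← hz]; ring
        have hlt : W.valuation (ι (ξ - (r₁ ^ p - r₁))) < 1 := by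
          rw [show ι (ξ - (r₁ ^ p - r₁)) = (z - ι r₁) ^ p - (z - ι r₁) by rw [sub_pow_char, map_sub, map_sub, map_pow, ← hz]; ring]
          refine Valuation.map_sub_lt _ ?_ hr₁
          rw [map_pow]; exact pow_lt_one₀ zero_le hr₁ hp.ne_zero
        by_contra hgt
        push Not at hgt
        have hlt' : W.valuation ((z - ι r₁) ^ p) < W.valuation (z - ι r₁) := by
          rw [map_pow]
          have h0 : 0 < W.valuation (z - ι r₁) := lt_trans hU.val_pos hgt
          exact pow_lt_self_of_lt_one₀ h0 hr₁ hp.one_lt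
        have := Valuation.map_sub_lt _ hlt' (lt_of_le_of_lt (hU.le_of_lt_one hlt) hgt)
        rw [← h1] at this
        exact lt_irrefl _ this
      -- improved approximations
      have happ : ∀ N : ℕ, ∃ r : F, W.valuation (z - ι r) ≤ W.valuation (ι x) ^ (N + 1) := by
        intro N
        induction N with
        | zero => exact ⟨r₁, by rw [pow_one]; exact hd1⟩
        | succ N ih =>
          obtain ⟨r, hr⟩ := ih
          refine ⟨r ^ p - ξ, ?_⟩
          rw [show z - ι (r ^ p - ξ) = (z - ι r) ^ p by rw [sub_pow_char, map_sub, map_pow, ← hz]; ring, map_pow]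
          refine (pow_le_pow_left₀ zero_le hr p).trans ?_
          rw [← pow_mul]
          refine pow_le_pow_of_le_one zero_le hU.lt.le ?_
          have := hp.two_le
          calc N + 1 + 1 ≤ (N + 1) * 2 := by omega
            _ ≤ (N + 1) * p := Nat.mul_le_mul_left _ this
      refine ⟨hy0, hU.lt, fun ω hω => ?_⟩
      -- the inverse is a bounded combination
      obtain ⟨c', hc'⟩ := hspan ω⁻¹
      obtain ⟨c, hc⟩ := hspan ω
      let q := W.valuation y
      have hN : ∀ a : F, ∃ N : ℕ, W.valuation (ι a) * q ^ N ≤ 1 := fun a => by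
        by_cases ha : a = 0
        · exact ⟨0, by simp [ha]⟩
        obtain ⟨k, hk⟩ := hU.gen a ha
        refine ⟨k.natAbs, ?_⟩
        rw [hk, ← zpow_natCast, ← zpow_add₀ hU.val_pos.ne']
        exact zpow_le_one₀ hU.val_pos hU.lt.le (by omega)
      choose M hM using hN
      let T := Finset.univ.sup (fun i => max (M (c i)) (M (c' i)))
      have hbound : ∀ a : F, M a ≤ T → W.valuation (ι a) * q ^ T ≤ 1 := fun a ha => by
        rw [show T = M a + (T - M a) by omega, pow_add, ← mul_assoc]
        exact mul_le_one' (hM a) (pow_le_one₀ zero_le hU.lt.le)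
      have hinv : q ^ T ≤ W.valuation ω := by
        have h1 : W.valuation ω⁻¹ * q ^ T ≤ 1 := by
          rw [← map_pow, ← map_mul, hc', Finset.sum_mul]
          refine Valuation.map_sum_le _ fun i _ => ?_
          rw [mul_right_comm, map_mul, map_mul, map_pow, map_pow]
          exact mul_le_one' (hbound _ (le_trans (le_max_right _ _) (Finset.le_sup (f := fun i => max (M (c i)) (M (c' i))) (Finset.mem_univ i))))
            (pow_le_one₀ zero_le hzW)
        rw [map_inv₀, inv_mul_le_one₀ (zero_lt_iff.2 ((_root_.map_ne_zero _).2 hω))] at h1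
        exact h1
      obtain ⟨r, hr⟩ := happ (2 * T)
      have hrW : W.valuation (ι r) ≤ 1 := by
        rw [show ι r = z - (z - ι r) by ring]
        exact W.valuation.map_sub_le hzW (hr.trans (pow_le_one₀ zero_le hU.lt.le))
      have hdiff : W.valuation (ω - ι (∑ i : Fin p, c i * r ^ (i : ℕ))) < W.valuation ω := by
        refine lt_of_lt_of_le ?_ hinv
        rw [hc, map_sum, ← Finset.sum_sub_distrib]
        refine Valuation.map_sum_lt _ (pow_ne_zero _ hU.val_pos.ne') fun i _ => ?_
        rw [map_mul, ← mul_sub, map_mul, map_pow]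
        have hle : W.valuation (z ^ (i : ℕ) - ι r ^ (i : ℕ)) ≤ q ^ (2 * T + 1) := by
          rw [← geom_sum₂_mul, map_mul]
          refine (mul_le_of_le_one_left zero_le (Valuation.map_sum_le _ fun j _ => ?_)).trans hr
          rw [map_mul, map_pow, map_pow]
          exact mul_le_one' (pow_le_one₀ zero_le hzW) (pow_le_one₀ zero_le hrW)
        refine lt_of_le_of_lt (mul_le_mul' le_rfl hle) ?_
        rw [show 2 * T + 1 = T + (T + 1) by omega, pow_add, ← mul_assoc]
        refine lt_of_le_of_lt (mul_le_of_le_one_left zero_le (hbound _ (le_trans (le_max_left _ _) (Finset.le_sup (f := fun i => max (M (c i)) (M (c' i))) (Finset.mem_univ i))))) ?_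
        exact pow_lt_pow_right_of_lt_one₀ hU.val_pos hU.lt (Nat.lt_succ_self T)
      rw [RingHom.id_apply, ← Valuation.map_eq_of_sub_lt _ (show W.valuation (ι (∑ i : Fin p, c i * r ^ (i : ℕ)) - ω) < W.valuation ω by
        rw [Valuation.map_sub_swap]; exact hdiff)]
      refine hU.gen _ fun h0 => ?_
      rw [h0, map_zero, sub_zero] at hdiff
      exact lt_irrefl _ hdiff
    · -- residues of the powers of `z` are independent
      have hirr : Irreducible (X ^ p - X - C (IsLocalRing.residue B c₀)) := by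
        have hp0 : (p : IsLocalRing.ResidueField B) = 0 := by
          have : CharP B p := (RingHom.charP_iff B.subtype Subtype.val_injective p).2 ‹_›
          rw [← map_natCast (IsLocalRing.residue B) p, CharP.cast_eq_zero, map_zero]
        have : CharP (IsLocalRing.ResidueField B) p := (CharP.charP_iff_prime_eq_zero hp).2 hp0
        refine irreducible_asPoly hp _ fun s hs => hroot ?_
        obtain ⟨r, rfl⟩ := IsLocalRing.residue_surjective s
        refine ⟨r, (IsLocalRing.residue_eq_zero_iff _).1 ?_⟩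
        rw [map_sub, map_sub, map_pow, hs, sub_self]
      have hind : ∀ b : Fin p → B, (∃ j, IsUnit (b j)) → W.valuation (∑ j, g (b j) * z ^ (j : ℕ)) = 1 := by
        intro b hb
        let g' : B →+* W := g.codRestrict W.toSubring hdom.1
        have : IsLocalHom g' := ⟨fun a ha => by
          by_contra hn
          exact ((W.valuation_lt_one_iff (g' a)).2 (hdom.2 a hn)) ha⟩
        let zb := IsLocalRing.residue W ⟨z, (W.valuation_le_one_iff _).1 hzW⟩
        let _ := (IsLocalRing.ResidueField.map g').toAlgebra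
        have hmin : minpoly (IsLocalRing.ResidueField B) zb = X ^ p - X - C (IsLocalRing.residue B c₀) := by
          refine (minpoly.eq_of_irreducible_of_monic hirr ?_ (monic_asPoly hp _)).symm
          simp only [map_sub, map_pow, aeval_X, aeval_C]
          show zb ^ p - zb - IsLocalRing.ResidueField.map g' (IsLocalRing.residue B c₀) = 0
          rw [IsLocalRing.ResidueField.map_residue, ← map_pow, ← map_sub, ← map_sub, IsLocalRing.residue_eq_zero_iff, W.valuation_lt_one_iff]
          show W.valuation (z ^ p - z - ι ξ) < 1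
          rw [hz, sub_self, map_zero]; exact zero_lt_one
        let P : (IsLocalRing.ResidueField B)[X] := ∑ j : Fin p, C (IsLocalRing.residue B (b j)) * X ^ (j : ℕ)
        have hP0 : P ≠ 0 := by
          obtain ⟨j, hj⟩ := hb
          intro h0
          have h1 := congrArg (fun q => q.coeff (j : ℕ)) h0
          simp only [P, finsetSum_coeff, coeff_C_mul, coeff_X_pow, coeff_zero] at h1
          rw [Finset.sum_eq_single j (fun i _ hne => by simp [(Fin.val_ne_iff.2 hne).symm]) (fun h => absurd (Finset.mem_univ j) h)] at h1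
          simp only [if_true, mul_one] at h1
          exact (IsLocalRing.residue_ne_zero_iff_isUnit _).2 hj h1
        have hne : aeval zb P ≠ 0 := fun h0 => by
          have h1 := Polynomial.natDegree_le_of_dvd (minpoly.dvd _ _ h0) hP0
          rw [hmin, natDegree_asPoly hp] at h1
          have : P.natDegree < p := by
            refine lt_of_le_of_lt (natDegree_sum_le_of_forall_le _ _ (n := p - 1) fun j _ => ?_) (Nat.sub_one_lt hp.ne_zero)
            exact (natDegree_C_mul_X_pow_le _ _).trans (by omega)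
          omega
        have hsum : ∑ j, g (b j) * z ^ (j : ℕ) = ((∑ j, g' (b j) * ⟨z, (W.valuation_le_one_iff _).1 hzW⟩ ^ (j : ℕ) : W) : Ω) := by
          simp [g']
        rw [hsum, ← W.valuation_eq_one_iff]
        by_contra hn
        refine hne ?_
        have h2 := (IsLocalRing.residue_eq_zero_iff _).2 (show (∑ j, g' (b j) * (⟨z, (W.valuation_le_one_iff _).1 hzW⟩ : W) ^ (j : ℕ)) ∈ IsLocalRing.maximalIdeal W from hn)
        rw [map_sum] at h2
        simp only [map_mul, map_pow] at h2
        simp only [P, map_sum, map_mul, map_pow, aeval_X, aeval_C]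
        rw [← h2]
        rfl
      exact unif_of_layer (π := X₀) (e := 1) (ev := fun j : Fin p => z ^ (j : ℕ))
        ⟨hX₀, hy0, hU.lt, by rw [pow_one]; rfl, hind⟩ Nat.one_pos (hclear _ hspan)
  · -- the residue field grows inseparably
    let a : B := ⟨ξ * x ^ (p * l), hres _ hle⟩
    let w := z * y ^ l
    have hwp : w ^ p = g a + y ^ (l * (p - 1)) * w := by
      have hexp : y ^ (l * (p - 1)) * y ^ l = y ^ (p * l) := by
        rw [← pow_add]; congr 1
        obtain ⟨p', rfl⟩ : ∃ p', p = p' + 1 := ⟨p - 1, by have := hp.pos; omega⟩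
        rw [Nat.add_sub_cancel]; ring
      show (z * y ^ l) ^ p = ι (ξ * x ^ (p * l)) + y ^ (l * (p - 1)) * (z * y ^ l)
      rw [mul_pow, map_mul, map_pow, ← hz, ← pow_mul, mul_comm l p]
      linear_combination -z * hexp
    have hw1 : W.valuation w ≤ 1 := by
      by_contra hgt
      push Not at hgt
      have h1 : W.valuation (w ^ p) ≤ W.valuation w := by
        rw [hwp]
        refine W.valuation.map_add_le (((W.valuation_le_one_iff _).2 a.2).trans hgt.le) ?_
        rw [map_mul, map_pow]
        exact mul_le_of_le_one_left zero_le (pow_le_one₀ zero_le hU.lt.le)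
      rw [map_pow] at h1
      have h2 := pow_lt_pow_right₀ hgt hp.one_lt
      rw [pow_one] at h2
      exact not_le.2 h2 h1
    have hd : W.valuation (y ^ (l * (p - 1)) * w) < 1 := by
      rw [map_mul, map_pow]
      refine mul_lt_one_of_nonneg_of_lt_one_left zero_le (pow_lt_one₀ zero_le hU.lt ?_) hw1
      have := hp.two_le
      exact Nat.mul_ne_zero (by omega) (by omega)
    have hr : ∀ s : B, a - s ^ p ∉ IsLocalRing.maximalIdeal B := fun s hs => by
      have h1 := hdom.2 _ hs
      exact not_lt.2 (hnp (s : F) ((W.valuation_le_one_iff _).2 s.2)) (by simpa [g, a] using h1)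
    have hspan' : ∀ ω : Ω, ∃ c : Fin p → F, ω = ∑ i : Fin p, ι (c i) * w ^ (i : ℕ) := fun ω => by
      obtain ⟨c, hc⟩ := hspan ω
      refine ⟨fun i => c i / x ^ (l * (i : ℕ)), hc.trans (Finset.sum_congr rfl fun i _ => ?_)⟩
      rw [map_div₀, map_pow, mul_pow, ← pow_mul]
      show _ = ι (c i) / y ^ (l * (i : ℕ)) * _
      field_simp [hy0]
    exact unif_of_layer (π := X₀) (e := 1) (ev := fun j : Fin p => w ^ (j : ℕ))
      ⟨hX₀, hy0, hU.lt, by rw [pow_one]; rfl, fun b hb => EtRamStepLib.indep_root W hdom hp hwp hd hr b hb⟩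
      Nat.one_pos (hclear _ hspan')

end ASWeakLib
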